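import Groth.Agent.Lib.SpHomog.Quot
import Groth.Agent.Lib.GrpQ.MonoClosed
import Groth.Agent.Lib.AffThick.Scheme
import Groth.Agent.Lib.AlgSpMor.Sep
import Groth.Agent.H14.FppfDesc.Scheme
import Groth.Agent.Lib.Flat55.FlatDescend

/-!
The quotient `F \ G` over a local artinian ring is a separated scheme.
-/

set_option autoImplicit false
set_option linter.style.haveILetI false

universe u

open CategoryTheory CategoryTheory.Limits MonoidalCategory CartesianMonoidalCategory MonObj GrpObj AlgebraicGeometry

namespace Groth.Agent.Lib.SpHomog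

open Groth.Agent.Lib.AlgSpace
open AlgSp (Sp yon Representable RepWith IsAlgSpace IsEqvRel IsDecent Points)

variable {A : Type u} [CommRing A] [IsArtinianRing A] [IsLocalRing A]

/-- The closed point of the base. -/
noncomputable abbrev clPt (A : Type u) [CommRing A] [IsLocalRing A] :
    Spec (CommRingCat.of (IsLocalRing.ResidueField A)) ⟶ Spec (CommRingCat.of A) :=
  Spec.map (CommRingCat.ofHom (IsLocalRing.residue A))

instance clPt_closedImmersion : IsClosedImmersion (clPt A) :=
  IsClosedImmersion.spec_of_surjective _ IsLocalRing.residue_surjective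

theorem subsingleton_primeSpectrum (A : Type u) [CommRing A] [IsArtinianRing A] [IsLocalRing A] :
    Subsingleton (PrimeSpectrum A) := by
  refine ⟨fun x y => PrimeSpectrum.ext ?_⟩
  rw [IsLocalRing.eq_maximalIdeal (IsArtinianRing.isMaximal_of_isPrime x.asIdeal),
    IsLocalRing.eq_maximalIdeal (IsArtinianRing.isMaximal_of_isPrime y.asIdeal)]

instance clPt_surjective : Surjective (clPt A) :=
  ⟨fun _ => ⟨IsLocalRing.closedPoint _, (subsingleton_primeSpectrum A).elim _ _⟩⟩

variable {F G : Over (Spec (CommRingCat.of A))} [GrpObj F] [GrpObj G] (u : F ⟶ G) [IsMonHom u]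

/-- The projection of the special fibre. -/
noncomputable abbrev incl (X : Over (Spec (CommRingCat.of A))) :
    (Over.map (clPt A)).obj ((Over.pullback (clPt A)).obj X) ⟶ X :=
  (Over.mapPullbackAdj (clPt A)).counit.app X

omit [IsArtinianRing A] in
theorem incl_left (X : Over (Spec (CommRingCat.of A))) : (incl X).left = pullback.fst X.hom (clPt A) := by
  simp [incl]

theorem surjective_incl (X : Over (Spec (CommRingCat.of A))) : Surjective (incl X).left := by
  rw [incl_left]; infer_instance

omit [IsArtinianRing A] in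
theorem isClosedImmersion_incl (X : Over (Spec (CommRingCat.of A))) : IsClosedImmersion (incl X).left := by
  rw [incl_left]; infer_instance

theorem isClosedImmersion_of_mono_artinian [LocallyOfFiniteType F.hom] [LocallyOfFiniteType G.hom] [Mono u]
    [QuasiCompact u.left] : IsClosedImmersion u.left := by
  haveI : LocallyOfFiniteType ((Over.pullback (clPt A)).obj F).hom :=
    inferInstanceAs (LocallyOfFiniteType (pullback.snd F.hom (clPt A)))
  haveI : LocallyOfFiniteType ((Over.pullback (clPt A)).obj G).hom :=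
    inferInstanceAs (LocallyOfFiniteType (pullback.snd G.hom (clPt A)))
  haveI : QuasiCompact ((Over.pullback (clPt A)).map u).left :=
    GrpSch.bc_map_left_of (P := @QuasiCompact) (clPt A) u ‹_›
  have h0 : IsClosedImmersion ((Over.pullback (clPt A)).map u).left :=
    GrpQ.MonoClosed.isClosedImmersion_of_mono ((Over.pullback (clPt A)).map u)
  have hw : ((Over.pullback (clPt A)).map u).left ≫ (incl G).left = (incl F).left ≫ u.left := by
    rw [incl_left, incl_left]; simp [pullback.lift_fst]
  haveI := surjective_incl F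
  haveI := isClosedImmersion_incl G
  haveI : UniversallyClosed ((incl F).left ≫ u.left) := by rw [← hw]; infer_instance
  haveI : UniversallyClosed u.left := UniversallyClosed.of_comp_surjective (incl F).left u.left
  haveI : LocallyOfFiniteType (u.left ≫ G.hom) := by rw [Over.w]; infer_instance
  haveI : LocallyOfFiniteType u.left := locallyOfFiniteType_of_comp u.left G.hom
  haveI : Mono u.left := (Over.forget _).map_mono u
  haveI : IsProper u.left := {}
  exact (IsClosedImmersion.iff_isProper_and_mono _).2 ⟨inferInstance, inferInstance⟩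

theorem isSeparated_of_isSeparatedSp {S : Scheme.{u}} {X : Over S} {Q : Sp S} (e : (yon S).obj X ≅ Q)
    (hd : RepWith @IsClosedImmersion (Limits.diag Q)) : IsSeparated X.hom := by
  haveI : (RepWith (S := S) @IsClosedImmersion).RespectsIso := inferInstance
  exact ⟨(AlgSp.repWith_diag_yon_iff @IsClosedImmersion X).1
    (((RepWith (S := S) @IsClosedImmersion).arrow_mk_iso_iff (Arrow.isoMk e (Limits.prod.mapIso e e)
      (show e.hom ≫ Limits.diag Q = Limits.diag _ ≫ Limits.prod.map e.hom e.hom by
        apply Limits.prod.hom_ext <;> simp [prod.lift_fst, prod.lift_snd]))).2 hd)⟩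

/-- Over a local artinian ring the quotient is a scheme. -/
theorem isScheme_quotL [Mono u] [QuasiCompact u.left] [Flat F.hom] [LocallyOfFiniteType F.hom]
    [LocallyOfFiniteType G.hom] :
    ∃ M : Over (Spec (CommRingCat.of A)), Nonempty ((yon _).obj M ≅ quotL u) := by
  haveI : LocallyOfFinitePresentation F.hom := LocallyOfFinitePresentation.iff_locallyOfFiniteType.2 ‹_›
  let k := IsLocalRing.ResidueField A
  let b := clPt A
  let P := Over.pullback b
  let F₀ := P.obj F
  let G₀ := P.obj G
  let u₀ : F₀ ⟶ G₀ := P.map u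
  haveI : IsMonHom u₀ := inferInstanceAs (IsMonHom (P.map u))
  haveI : LocallyOfFiniteType F₀.hom := inferInstanceAs (LocallyOfFiniteType (pullback.snd F.hom b))
  haveI : LocallyOfFiniteType G₀.hom := inferInstanceAs (LocallyOfFiniteType (pullback.snd G.hom b))
  haveI : QuasiCompact u₀.left := GrpSch.bc_map_left_of (P := @QuasiCompact) b u ‹_›
  haveI : Flat F₀.hom := flat_to_field _
  haveI : LocallyOfFinitePresentation F₀.hom := LocallyOfFinitePresentation.iff_locallyOfFiniteType.2 ‹_›
  obtain ⟨M₀, ⟨e⟩⟩ := isScheme_quotL_field u₀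
  obtain ⟨q₀, hq₀⟩ := (yon _).map_surjective (quotLπ u₀ ≫ e.inv)
  obtain ⟨hf, hp, hs, -⟩ := repWith_quotLπ u₀
  have sqq : IsPullback (𝟙 ((yon _).obj G₀)) ((yon _).map q₀) (quotLπ u₀) e.hom :=
    IsPullback.of_horiz_isIso ⟨by rw [hq₀, Category.assoc, Iso.inv_hom_id, Category.comp_id, Category.id_comp]⟩
  rw [← (yon _).map_id] at sqq
  haveI : Flat q₀.left := repWith_property hf sqq
  haveI : LocallyOfFinitePresentation q₀.left := repWith_property hp sqq
  haveI : Surjective q₀.left := repWith_property hs sqq
  have sq0 : IsPullback (tMap u₀) (snd F₀ G₀) q₀ q₀ := by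
    refine isPullback_of_yon_map ((isPullback_quot (isEqvRel_left u₀)).of_iso (Iso.refl _) (Iso.refl _) (Iso.refl _)
      e.symm (by simp) (by simp) ?_ ?_) <;> simp [hq₀]
  -- push forward to the artinian base
  let Q := Over.map b
  let qS : Q.obj G₀ ⟶ Q.obj M₀ := Q.map q₀
  have hqS : fppfCover qS.left := by
    show fppfCover q₀.left
    exact fppfCover_mk q₀.left
  haveI := isLocallySurjective_yon_map qS hqS
  let tS : Q.obj (F₀ ⊗ G₀) ⟶ Q.obj G₀ := Q.map (tMap u₀)
  let sS : Q.obj (F₀ ⊗ G₀) ⟶ Q.obj G₀ := Q.map (snd F₀ G₀)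
  have sqS : IsPullback ((yon _).map tS) ((yon _).map sS) ((yon _).map qS) ((yon _).map qS) :=
    GrpdQuot.isPullback_yon_of_left (s := sS) (t := tS) (sq0.map (Over.forget _))
  have hsqπ := isPullback_quot (isEqvRel_left u)
  let θ : F₀ ⊗ G₀ ⟶ P.obj (F ⊗ G) := Functor.LaxMonoidal.μ P F G
  haveI : IsIso θ := inferInstanceAs (IsIso (Functor.LaxMonoidal.μ P F G))
  have hθt : θ ≫ P.map (tMap u) = tMap u₀ := by
    simp only [θ, u₀, tMap, Functor.map_comp]
    rw [← Functor.LaxMonoidal.μ_natural_left_assoc]
    rfl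
  have hθs : θ ≫ P.map (snd F G) = snd F₀ G₀ := Functor.Monoidal.μ_snd P F G
  let zS : Q.obj (F₀ ⊗ G₀) ⟶ F ⊗ G := Q.map θ ≫ incl (F ⊗ G)
  have hnat : ∀ {X Y : Over (Spec (CommRingCat.of A))} (f : X ⟶ Y),
      Q.map (P.map f) ≫ incl Y = incl X ≫ f := fun f => (Over.mapPullbackAdj b).counit.naturality f
  have hzt : zS ≫ tMap u = tS ≫ incl G := by
    show (Q.map θ ≫ incl (F ⊗ G)) ≫ tMap u = Q.map (tMap u₀) ≫ incl G
    rw [Category.assoc, ← hnat, ← Category.assoc, ← Q.map_comp, hθt]
  have hzs : zS ≫ snd F G = sS ≫ incl G := by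
    show (Q.map θ ≫ incl (F ⊗ G)) ≫ snd F G = Q.map (snd F₀ G₀) ≫ incl G
    rw [Category.assoc, ← hnat, ← Category.assoc, ← Q.map_comp, hθs]
  obtain ⟨i, hi⟩ := exists_desc ((yon _).map qS) sqS ((yon _).map (incl G) ≫ quotLπ u) (by
    rw [← Functor.map_comp_assoc, ← Functor.map_comp_assoc, ← hzt, ← hzs]
    rw [Functor.map_comp_assoc (yon _) zS (tMap u), Functor.map_comp_assoc (yon _) zS (snd F G)]
    exact congrArg ((yon _).map zS ≫ ·) hsqπ.w)
  haveI : Mono (incl G).left := by
    haveI := isClosedImmersion_incl G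
    infer_instance
  haveI : Mono (incl G) := Over.mono_of_mono_left _
  have sqi : IsPullback ((yon _).map qS) ((yon _).map (incl G)) i (quotLπ u) := by
    refine isPullback_of_yon hi (fun T c c' _ h2 => ?_) fun T x g w => ?_
    · exact (cancel_mono _).1 h2
    · obtain ⟨g, rfl⟩ := (yon _).map_surjective g
      obtain ⟨x, rfl⟩ := (yon _).map_surjective x
      -- the point factors through the special fibre
      let x' : Over.mk (x.left ≫ M₀.hom) ⟶ M₀ := Over.homMk x.left rfl
      have hT : (x.left ≫ M₀.hom) ≫ b = T.hom := (Category.assoc _ _ _).trans (Over.w x)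
      let lift₀ : ∀ {X : Over (Spec (CommRingCat.of A))} (z : T ⟶ X), ∃ z₀ : T ⟶ Q.obj (P.obj X), z₀ ≫ incl X = z :=
        fun {X} z => ⟨Over.homMk (pullback.lift z.left (x.left ≫ M₀.hom) ((Over.w z).trans hT.symm))
          (by
            show pullback.lift _ _ _ ≫ pullback.snd X.hom b ≫ b = T.hom
            rw [pullback.lift_snd_assoc]
            exact hT),
          Over.OverMorphism.ext (by rw [Over.comp_left, incl_left]; exact pullback.lift_fst _ _ _)⟩
      obtain ⟨g₀, hg₀⟩ := lift₀ g
      refine ⟨(yon _).map g₀, ?_, by rw [← Functor.map_comp, hg₀]⟩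
      obtain ⟨T', p, a, hp, ha⟩ := exists_lift_of_isLocallySurjective ((yon _).map qS) ((yon _).map x)
      obtain ⟨a, rfl⟩ := (yon _).map_surjective a
      haveI := epi_yon_map p hp
      rw [← cancel_epi ((yon _).map p), ← ha]
      have h1 : (yon _).map (a ≫ incl G) ≫ quotLπ u = (yon _).map (p ≫ g) ≫ quotLπ u := by
        rw [Functor.map_comp, Functor.map_comp, Category.assoc, Category.assoc, ← hi, ← Category.assoc _ _ i, ha,
          Category.assoc, w]
      obtain ⟨f, hf⟩ := (rel_iff u _ _).1 h1
      obtain ⟨z₀, hz₀⟩ : ∃ z₀ : T' ⟶ Q.obj (F₀ ⊗ G₀), z₀ ≫ zS = lift f (p ≫ g) := by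
        have hT' : (p.left ≫ x.left ≫ M₀.hom) ≫ b = T'.hom := by rw [Category.assoc, hT, Over.w]
        let z : T' ⟶ Q.obj (P.obj (F ⊗ G)) := Over.homMk
          (pullback.lift (lift f (p ≫ g)).left (p.left ≫ x.left ≫ M₀.hom) ((Over.w _).trans hT'.symm))
          (by
            show pullback.lift _ _ _ ≫ pullback.snd (F ⊗ G).hom b ≫ b = T'.hom
            rw [pullback.lift_snd_assoc]
            exact hT')
        refine ⟨z ≫ Q.map (inv θ), ?_⟩
        simp only [zS, Category.assoc]
        rw [← Functor.map_comp_assoc, IsIso.inv_hom_id, CategoryTheory.Functor.map_id, Category.id_comp]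
        exact Over.OverMorphism.ext (by rw [Over.comp_left, incl_left]; exact pullback.lift_fst _ _ _)
      have ea : z₀ ≫ tS = a := by
        rw [← cancel_mono (incl G), Category.assoc, ← hzt, reassoc_of% hz₀, lift_tMap, hf]
      have eg : z₀ ≫ sS = p ≫ g₀ := by
        rw [← cancel_mono (incl G), Category.assoc, ← hzs, reassoc_of% hz₀, lift_snd, Category.assoc, hg₀]
      rw [← Functor.map_comp_assoc, ← eg, ← ea, Functor.map_comp, Functor.map_comp, Category.assoc, Category.assoc,
        sqS.w]
  have hrep : Representable i := representable_from_yon (isAlgSpace_quotL u).diag i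
  obtain ⟨-, -, -, hls⟩ := repWith_quotLπ u
  haveI := hls
  haveI := AlgSpMor.Sep.isLocalAtTarget_fppf_isClosedImmersion.{u}
  haveI := isLocalAtTarget_fppf_surjective.{u}
  have hthick : AlgSp.IsThickMor i := by
    have h1 : RepWith @IsClosedImmersion i := repWith_of_isLocallySurjective hrep _ sqi @IsClosedImmersion
      ((AlgSp.repWith_yon_map_iff _ _).2 (isClosedImmersion_incl G))
    have h2 : RepWith @Surjective i := repWith_of_isLocallySurjective hrep _ sqi @Surjective
      ((AlgSp.repWith_yon_map_iff _ _).2 (surjective_incl G))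
    exact repWith_inf_iff.2 ⟨h1, h2⟩
  exact AffThick.exists_scheme (isAlgSpace_quotL u) hthick (Iso.refl _)

/-- The separated scheme quotient with its properties. -/
theorem exists_quotient [Mono u] [QuasiCompact u.left] [Flat F.hom] [LocallyOfFiniteType F.hom]
    [LocallyOfFiniteType G.hom] :
    ∃ (X : Over (Spec (CommRingCat.of A))) (p : G ⟶ X),
      Flat p.left ∧ Surjective p.left ∧ LocallyOfFinitePresentation p.left ∧
      IsPullback (tMap u) (snd F G) p p ∧ IsSeparated X.hom ∧ LocallyOfFiniteType X.hom ∧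
      (Flat G.hom → Flat X.hom) ∧ (Smooth G.hom → Smooth X.hom) ∧ (QuasiCompact G.hom → QuasiCompact X.hom) := by
  haveI : LocallyOfFinitePresentation F.hom := LocallyOfFinitePresentation.iff_locallyOfFiniteType.2 ‹_›
  obtain ⟨X, ⟨e⟩⟩ := isScheme_quotL u
  obtain ⟨p, hp⟩ := (yon _).map_surjective (quotLπ u ≫ e.inv)
  obtain ⟨h1, h2, h3, hls⟩ := repWith_quotLπ u
  haveI := hls
  have sqq : IsPullback (𝟙 ((yon _).obj G)) ((yon _).map p) (quotLπ u) e.hom :=
    IsPullback.of_horiz_isIso ⟨by rw [hp, Category.assoc, Iso.inv_hom_id, Category.comp_id, Category.id_comp]⟩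
  rw [← (yon _).map_id] at sqq
  haveI : Flat p.left := repWith_property h1 sqq
  haveI : LocallyOfFinitePresentation p.left := repWith_property h2 sqq
  haveI : Surjective p.left := repWith_property h3 sqq
  have sqp : IsPullback (tMap u) (snd F G) p p := by
    refine isPullback_of_yon_map ((isPullback_quot (isEqvRel_left u)).of_iso (Iso.refl _) (Iso.refl _) (Iso.refl _)
      e.symm (by simp) (by simp) ?_ ?_) <;> simp [hp]
  haveI hXl : LocallyOfFiniteType X.hom :=
    H14.FppfDesc.Scheme.locallyOfFiniteType_of_comp p.left X.hom (by rw [Over.w]; infer_instance)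
  refine ⟨X, p, ‹_›, ‹_›, ‹_›, sqp, ?_, hXl, fun hG => ?_, fun hG => ?_, fun hG => ?_⟩
  · -- separatedness
    have hu := isClosedImmersion_of_mono_artinian u
    haveI := AlgSpMor.Sep.isLocalAtTarget_fppf_isClosedImmersion.{u}
    haveI := hu
    let e' : G ⊗ G ≅ G ⨯ G :=
      { hom := prod.lift (fst G G * snd G G) (snd G G)
        inv := lift (Limits.prod.fst * (Limits.prod.snd : G ⨯ G ⟶ G)⁻¹) Limits.prod.snd
        hom_inv_id := by
          apply CartesianMonoidalCategory.hom_ext
          · simp only [Category.assoc, lift_fst, MonObj.comp_mul, GrpObj.comp_inv, Limits.prod.lift_fst,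
              Limits.prod.lift_snd, mul_inv_cancel_right, Category.id_comp]
          · simp [Limits.prod.lift_snd]
        inv_hom_id := by
          apply Limits.prod.hom_ext
          · simp only [Category.assoc, Limits.prod.lift_fst, MonObj.comp_mul, lift_fst, lift_snd,
              inv_mul_cancel_right, Category.id_comp]
          · simp [Limits.prod.lift_snd] }
    have he : prod.lift (tMap u) (snd F G) = (u ▷ G) ≫ e'.hom := by
      apply Limits.prod.hom_ext
      · simp only [e', Category.assoc, Limits.prod.lift_fst, MonObj.comp_mul]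
        rw [Hom.mul_def, whiskerRight_fst, whiskerRight_snd]
        conv_rhs => rw [show lift (fst F G ≫ u) (snd F G) = u ▷ G by
          apply CartesianMonoidalCategory.hom_ext <;> simp]
      · simp [e', Limits.prod.lift_snd]
    have hd : RepWith @IsClosedImmersion (Limits.diag (quotL u)) := by
      haveI := isLocallySurjective_yonProdMap (quotLπ u) (quotLπ u)
      refine repWith_of_isLocallySurjective (isAlgSpace_quotL u).diag (yonProdMap (quotLπ u) (quotLπ u))
        (isPullback_diag_yonProd (isPullback_quot (isEqvRel_left u))) @IsClosedImmersion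
        ((AlgSp.repWith_yon_map_iff _ _).2 ?_)
      rw [he, Over.comp_left]
      haveI : IsClosedImmersion (u ▷ G).left := GrpSch.whiskerRight_left_of (P := @IsClosedImmersion) u G hu
      haveI : IsIso e'.hom.left := ((Over.forget _).mapIso e').isIso_hom
      infer_instance
    exact isSeparated_of_isSeparatedSp e hd
  · haveI : Flat (p.left ≫ X.hom) := by rw [Over.w]; exact hG
    exact Flat55.FlatDescend.flat_of_comp p.left X.hom
  · exact H14.FppfDesc.Scheme.smooth_of_comp p.left X.hom (by rw [Over.w]; exact hG)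
  · refine ⟨fun U hU hU' => ?_⟩
    rw [← Set.image_preimage_eq (X.hom ⁻¹' U) p.left.surjective, ← Set.preimage_comp]
    haveI : QuasiCompact (p.left ≫ X.hom) := by rw [Over.w]; exact hG
    exact (QuasiCompact.isCompact_preimage (f := p.left ≫ X.hom) U hU hU').image p.left.continuous

end Groth.Agent.Lib.SpHomog
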