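import Groth.Agent.Lib.SpHomog.Quot

/-!
Left and right translation squares of a normal subgroup, and fpqc coverings given by open maps.
-/

set_option autoImplicit false
set_option linter.style.haveILetI false

universe u

open CategoryTheory CategoryTheory.Limits MonoidalCategory CartesianMonoidalCategory MonObj GrpObj AlgebraicGeometry

namespace Groth.Agent.Lib.SpHomog

variable {S : Scheme.{u}} {F G X : Over S} [GrpObj F] [GrpObj G]

omit [GrpObj F] in
theorem lift_mulRight (u : F ⟶ G) {T : Over S} (g : T ⟶ G) (f : T ⟶ F) :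
    lift g f ≫ (G ◁ u) ≫ μ[G] = g * (f ≫ u) := by
  rw [lift_whiskerLeft_assoc, Hom.mul_def]

/-- For a normal subgroup the cartesian square of left translations gives the one of right translations. -/
theorem isPullback_mulRight (u : F ⟶ G) [IsMonHom u] [Mono u] (hN : AlgGrp.IsNormalHom u) {p : G ⟶ X}
    (h : IsPullback (tMap u) (snd F G) p p) : IsPullback ((G ◁ u) ≫ μ[G]) (fst G F) p p := by
  refine ⟨⟨?_⟩, ⟨PullbackCone.IsLimit.mk _ (fun s => lift s.snd
    (hN _ s.snd⁻¹ (h.lift s.fst s.snd s.condition ≫ fst F G)).choose) (fun s => ?_) (fun s => lift_fst _ _)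
    (fun s m h1 h2 => ?_)⟩⟩
  · obtain ⟨n, hn⟩ := hN _ (fst G F) (snd G F)
    have e1 : (G ◁ u) ≫ μ[G] = lift n (fst G F) ≫ tMap u := by
      rw [lift_tMap, ← hn, inv_mul_cancel_right, ← lift_mulRight, lift_fst_snd, Category.id_comp]
    rw [e1, Category.assoc, h.w, lift_snd_assoc]
  · have hn := (hN _ s.snd⁻¹ (h.lift s.fst s.snd s.condition ≫ fst F G)).choose_spec
    have e : (h.lift s.fst s.snd s.condition ≫ fst F G ≫ u) * s.snd = s.fst := by
      conv_rhs => rw [← h.lift_fst s.fst s.snd s.condition, eq_lift (h.lift s.fst s.snd s.condition), lift_tMap,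
        h.lift_snd, Category.assoc]
    rw [lift_mulRight, ← hn, _root_.inv_inv, Category.assoc, _root_.mul_assoc, mul_inv_cancel_left, e]
  · have hn := (hN _ s.snd⁻¹ (h.lift s.fst s.snd s.condition ≫ fst F G)).choose_spec
    have e : (h.lift s.fst s.snd s.condition ≫ fst F G ≫ u) * s.snd = s.fst := by
      conv_rhs => rw [← h.lift_fst s.fst s.snd s.condition, eq_lift (h.lift s.fst s.snd s.condition), lift_tMap,
        h.lift_snd, Category.assoc]
    apply CartesianMonoidalCategory.hom_ext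
    · rw [lift_fst]; exact h2
    · rw [lift_snd, ← cancel_mono u, ← hn, _root_.inv_inv, Category.assoc, Category.assoc, _root_.mul_assoc, e]
      rw [eq_lift m, lift_mulRight, h2] at h1
      rw [← h1, inv_mul_cancel_left, Category.assoc]

/-- An open surjection is covering for the fpqc topology. -/
theorem exists_isCompact_image_eq {Z Y : Scheme.{u}} (p : Z ⟶ Y) [Surjective p] [UniversallyOpen p]
    (V : Y.Opens) (hV : IsAffineOpen V) :
    ∃ W : Z.Opens, IsCompact (W : Set Z) ∧ p.base '' (W : Set Z) = (V : Set Y) := by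
  choose x hx using p.surjective
  have hW : ∀ y : (V : Set Y), ∃ W : Z.Opens, IsAffineOpen W ∧ x y ∈ W ∧ W ≤ p ⁻¹ᵁ V := fun y =>
    exists_isAffineOpen_mem_and_subset (show p (x y) ∈ (V : Set Y) by rw [hx y]; exact y.2)
  choose W hWa hWm hWle using hW
  obtain ⟨t, ht⟩ := hV.isCompact.elim_finite_subcover (fun y => p.base '' (W y : Set Z))
    (fun y => p.isOpenMap _ (W y).2) fun y hy => Set.mem_iUnion.2 ⟨⟨y, hy⟩, x y, hWm ⟨y, hy⟩, hx y⟩
  refine ⟨⨆ y ∈ t, W y, ?_, Set.Subset.antisymm ?_ ?_⟩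
  · simp only [TopologicalSpace.Opens.coe_iSup]
    exact t.finite_toSet.isCompact_biUnion fun y _ => (hWa y).isCompact
  · rintro _ ⟨z, hz, rfl⟩
    simp only [TopologicalSpace.Opens.coe_iSup, Set.mem_iUnion] at hz
    obtain ⟨y, -, hy⟩ := hz
    exact hWle y hy
  · intro v hv
    obtain ⟨y, hy, z, hz, rfl⟩ := Set.mem_iUnion₂.1 (ht hv)
    exact ⟨z, by simpa using ⟨y, y.2, hy, hz⟩, rfl⟩

end Groth.Agent.Lib.SpHomog
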