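import Groth.Agent.Lib.SpHomog.FiniteCover
import Groth.Agent.Lib.AlgSpDecent.DenseOpen
import Groth.Agent.Lib.GrpSch.GenericIso

/-!
An algebraic space over a field moved around by a family of automorphisms is a scheme.
-/

set_option autoImplicit false
set_option linter.style.haveILetI false

universe u

open CategoryTheory CategoryTheory.Limits AlgebraicGeometry Opposite Topology

namespace Groth.Agent.Lib.SpHomog

open Groth.Agent.Lib.AlgSpace
open AlgSp

attribute [local simp] prod.lift_fst prod.lift_snd prod.map_fst prod.map_snd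

theorem mem_of_maximal {X : Scheme.{u}} [IsLocallyNoetherian X] {O : Set X} (hO : IsOpen O) (hd : Dense O)
    {p : X} (hmax : ∀ y, y ⤳ p → y = p) : p ∈ O := by
  obtain ⟨V, hV, hpV, -⟩ := exists_isAffineOpen_mem_and_subset (U := ⊤) (x := p) (Set.mem_univ p)
  haveI : IsAffine V.toScheme := hV
  haveI : CompactSpace V.toScheme := isCompact_iff_compactSpace.1 hV.isCompact
  haveI : AlgebraicGeometry.IsNoetherian V.toScheme := ⟨⟩
  let p' : V.toScheme := ⟨p, hpV⟩
  let Z : Set V.toScheme := ⋃₀ {C ∈ irreducibleComponents V.toScheme | C ≠ closure {p'}}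
  have hZ : IsClosed Z := by
    show IsClosed (⋃₀ _)
    rw [Set.sUnion_eq_biUnion]
    refine Set.Finite.isClosed_biUnion
      (Set.Finite.subset (finite_irreducibleComponents_of_isNoetherian (X := V.toScheme)) fun C h => h.1)
      fun C h => isClosed_of_mem_irreducibleComponents C h.1
  have hpZ : p' ∉ Z := by
    rintro ⟨C, ⟨hC, hne⟩, hpC⟩
    obtain ⟨η, hη⟩ := QuasiSober.sober hC.1 (isClosed_of_mem_irreducibleComponents C hC)
    have h1 : V.ι η = p := hmax _ ((hη.specializes hpC).map V.ι.continuous)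
    exact hne (by rw [← hη.def, show η = p' from Subtype.ext h1])
  obtain ⟨y, hyN, hyO⟩ := hd.inter_open_nonempty _ (V.ι.isOpenEmbedding.isOpenMap _ hZ.isOpen_compl)
    ⟨p, p', hpZ, rfl⟩
  obtain ⟨y', hy', rfl⟩ := hyN
  have hspec : p' ⤳ y' := by
    rw [specializes_iff_mem_closure]
    by_contra hc
    refine hy' ⟨irreducibleComponent y', ⟨irreducibleComponent_mem_irreducibleComponents y', fun e => hc ?_⟩,
      mem_irreducibleComponent⟩
    exact e ▸ mem_irreducibleComponent
  exact (hspec.map V.ι.continuous).mem_open hO hyO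

theorem eq_of_specializes_of_finite {X Y : Scheme.{u}} (f : X ⟶ Y) [IsFinite f] {a b : X} (h : a ⤳ b)
    (e : f a = f b) : a = b := by
  haveI := (f.isDiscrete_preimage_singleton (f b)).to_subtype
  have h' : (⟨a, e⟩ : (f ⁻¹' {f b} : Set X)) ⤳ ⟨b, rfl⟩ :=
    Topology.IsInducing.subtypeVal.specializes_iff.mp h
  exact congrArg Subtype.val h'.eq

variable {k : Type u} [Field k]

theorem isFinite_point {X : Over (Spec (CommRingCat.of k))} [LocallyOfFiniteType X.hom] {x : X.left}
    (hx : IsClosed ({x} : Set X.left)) : IsFinite (X.left.fromSpecResidueField x ≫ X.hom) := by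
  haveI := isClosed_singleton_iff_isClosedImmersion.mp hx
  exact (isFinite_iff_locallyOfFiniteType_of_jacobsonSpace
    (X := Spec (X.left.residueField x))).mpr inferInstance

theorem flat_to_field {X : Scheme.{u}} (f : X ⟶ Spec (CommRingCat.of k)) : Flat f :=
  Groth.Agent.Lib.GrpSch.flat_of_isField (Field.toIsField k) f

theorem repWith_prod_snd (P : MorphismProperty Scheme.{u}) [P.IsStableUnderBaseChange] {S : Scheme.{u}}
    (U V : Over S) (h : P U.hom) : P (Limits.prod.snd : U ⨯ V ⟶ V).left := by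
  obtain ⟨f, -⟩ := exists_toTop ((yon S).obj V)
  have h1 := repWith_prod_fst P ((yon S).obj V) U h
  have h2 : RepWith P ((prod.braiding ((yon S).obj U) ((yon S).obj V)).hom ≫
      (Limits.prod.fst : (yon S).obj V ⨯ (yon S).obj U ⟶ (yon S).obj V)) :=
    (repWith_iso_comp_iff P _ _).2 h1
  have h3 : RepWith P ((yonProdIso U V).hom ≫ (prod.braiding ((yon S).obj U) ((yon S).obj V)).hom ≫
      (Limits.prod.fst : (yon S).obj V ⨯ (yon S).obj U ⟶ (yon S).obj V)) :=
    (repWith_iso_comp_iff P _ _).2 h2
  rw [prod.braiding_hom, Limits.prod.lift_fst, yonProdIso_hom_snd] at h3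
  exact (AlgSp.repWith_yon_map_iff P _).1 h3

/-- An algebraic space over a field with a family of automorphisms parametrised by a scheme, whose orbit
maps of closed points are open, is a scheme. -/
theorem isScheme_of_transitive {Q : Sp (Spec (CommRingCat.of k))} (hQ : IsAlgSpace Q) (hdec : IsDecent Q)
    {U H : Over (Spec (CommRingCat.of k))} [LocallyOfFiniteType U.hom] [LocallyOfFiniteType H.hom]
    [Nonempty H.left] (q : (yon _).obj U ⟶ Q) (hq : Function.Surjective (Points.ofPt q))
    (θ θ' : Q ⨯ (yon _).obj H ⟶ Q) (hθ : prod.lift θ Limits.prod.snd ≫ θ' = Limits.prod.fst)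
    (hθ' : prod.lift θ' Limits.prod.snd ≫ θ = Limits.prod.fst)
    (hopen : ∀ (C : Over (Spec (CommRingCat.of k))) [IsFinite C.hom] (c : C ⟶ U),
      IsOpenMap (Points.map (prod.map ((yon _).map c ≫ q) (𝟙 ((yon _).obj H)) ≫ θ))) :
    ∃ M : Over (Spec (CommRingCat.of k)), Nonempty ((yon _).obj M ≅ Q) := by
  let S := Spec (CommRingCat.of k)
  obtain ⟨G, m, hm, hmax⟩ := AlgSpDecent.DenseOpen.exists_largest hQ
  suffices h : ∀ u : U.left, IsClosed ({u} : Set U.left) → Points.ofPt q u ∈ Set.range (Points.map m) by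
    haveI := AlgSpDecent.OpenScheme.isIso_of_surjective hm fun x => by
      obtain ⟨u, rfl⟩ := hq x
      by_contra hu
      haveI : JacobsonSpace U.left := LocallyOfFiniteType.jacobsonSpace U.hom
      obtain ⟨v, hv, hvc⟩ := nonempty_inter_closedPoints (Z := (Points.ofPt q ⁻¹' Set.range (Points.map m))ᶜ)
        ⟨u, hu⟩ (((isOpenEmbedding_map hm).isOpen_range.preimage (Points.continuous_ofPt q)).isClosed_compl.isLocallyClosed)
      exact hv (h v hvc)
    exact ⟨G, ⟨asIso m⟩⟩
  intro u hu
  -- dense open with enough affines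
  obtain ⟨G', m', hm', hdense'⟩ := AlgSpDecent.DenseOpen.exists_dense_open hQ hdec
  obtain ⟨W, hWd, hWA⟩ := exists_dense_afinite G'.left
  let V : Over S := Over.mk (W.ι ≫ G'.hom)
  let ιV : V ⟶ G' := Over.homMk W.ι rfl
  let l : (yon S).obj V ⟶ Q := (yon S).map ιV ≫ m'
  have hlimm : RepWith @IsOpenImmersion l := repWith_yon_map_comp (inferInstanceAs (IsOpenImmersion W.ι)) hm'
  have hld : Dense (Set.range (Points.map l)) := by
    have e : Set.range (Points.map l) = (Points.map m' ∘ Points.schemeHomeo G') '' (W : Set G'.left) := by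
      ext z
      constructor
      · rintro ⟨x, rfl⟩
        obtain ⟨y, rfl⟩ := (Points.schemeHomeo V).surjective x
        refine ⟨W.ι y, y.2, ?_⟩
        show Points.map m' (Points.schemeHomeo G' (ιV.left y)) = _
        rw [← Points.map_yon_map_apply ιV, ← Points.map_comp]
      · rintro ⟨w, hw, rfl⟩
        refine ⟨Points.schemeHomeo V ⟨w, hw⟩, ?_⟩
        rw [Points.map_comp, Points.map_yon_map_apply, Function.comp_apply]
        rfl
    rw [e]
    refine DenseRange.dense_image ?_ ((Points.continuous_map m').comp (Points.schemeHomeo G').continuous) hWd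
    rw [DenseRange, Set.range_comp, (Points.schemeHomeo G').surjective.range_eq, Set.image_univ]
    exact hdense'
  -- the point and the orbit map
  let C : Over S := Over.mk (U.left.fromSpecResidueField u ≫ U.hom)
  let c : C ⟶ U := Over.homMk (U.left.fromSpecResidueField u) rfl
  haveI : IsFinite C.hom := isFinite_point hu
  let cq : (yon S).obj C ⟶ Q := (yon S).map c ≫ q
  let τ : (yon S).obj (C ⨯ H) ⟶ Q := (yonProdIso C H).hom ≫ prod.map cq (𝟙 _) ≫ θ
  let O : Set (C ⨯ H).left := Points.ofPt τ ⁻¹' Set.range (Points.map l)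
  have hOo : IsOpen O := (isOpenEmbedding_map hlimm).isOpen_range.preimage (Points.continuous_ofPt τ)
  have hOd : Dense O := by
    refine Dense.preimage hld ?_
    rw [show Points.ofPt τ = (Points.map τ) ∘ Points.schemeHomeo (C ⨯ H) from funext fun z => by
      rw [Function.comp_apply]; exact Points.ofPt_eq_map_ofScheme τ z]
    refine IsOpenMap.comp ?_ (Points.schemeHomeo (C ⨯ H)).isOpenMap
    have e : Points.map τ = Points.map (prod.map cq (𝟙 _) ≫ θ) ∘ Points.map (yonProdIso C H).hom :=
      funext fun z => by rw [Function.comp_apply, ← Points.map_comp]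
    rw [e]
    exact (hopen C c).comp
      (AlgSpDecent.Core.homeoOfIso (yonProdIso C H)).isOpenMap
  let pH : (C ⨯ H).left ⟶ H.left := (Limits.prod.snd : C ⨯ H ⟶ H).left
  haveI : IsFinite pH := repWith_prod_snd @IsFinite C H ‹_›
  haveI : Flat pH := repWith_prod_snd @Flat C H (flat_to_field _)
  haveI : IsLocallyNoetherian H.left := LocallyOfFiniteType.isLocallyNoetherian H.hom
  haveI : IsLocallyNoetherian (C ⨯ H).left := LocallyOfFiniteType.isLocallyNoetherian pH
  have hne : (pH '' Oᶜ)ᶜ.Nonempty := by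
    obtain ⟨h₀⟩ := ‹Nonempty H.left›
    obtain ⟨η, hη⟩ := QuasiSober.sober (isIrreducible_irreducibleComponent (x := h₀))
      isClosed_irreducibleComponent
    refine ⟨η, ?_⟩
    rintro ⟨p, hp, hpη⟩
    refine hp (mem_of_maximal hOo hOd fun y hy => ?_)
    have h1 : pH y = η := by
      have h2 : pH y ⤳ η := hpη ▸ hy.map pH.continuous
      refine Inseparable.eq (Specializes.antisymm h2 ?_)
      have : closure {η} ⊆ closure {pH y} := closure_minimal
        (Set.singleton_subset_iff.2 h2.mem_closure) isClosed_closure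
      have hle : irreducibleComponent h₀ = closure {pH y} :=
        eq_irreducibleComponent isIrreducible_singleton.closure.isPreirreducible
          (by rw [← hη.def]; exact this)  |>.symm
      rw [specializes_iff_mem_closure, hη.def, hle]
      exact subset_closure rfl
    exact eq_of_specializes_of_finite pH hy (h1.trans hpη.symm)
  haveI : JacobsonSpace H.left := LocallyOfFiniteType.jacobsonSpace H.hom
  obtain ⟨h, hhO, hhc⟩ := nonempty_inter_closedPoints hne
    ((pH.isClosedMap _ hOo.isClosed_compl).isOpen_compl.isLocallyClosed)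
  let T : Over S := Over.mk (H.left.fromSpecResidueField h ≫ H.hom)
  let t : T ⟶ H := Over.homMk (H.left.fromSpecResidueField h) rfl
  haveI : IsFinite T.hom := isFinite_point hhc
  haveI : Flat T.hom := flat_to_field _
  haveI : LocallyOfFinitePresentation T.hom := LocallyOfFinitePresentation.iff_locallyOfFiniteType.2 inferInstance
  haveI : Surjective T.hom := ⟨fun s => ⟨IsLocalRing.closedPoint (H.left.residueField h), Subsingleton.elim _ _⟩⟩
  -- translation
  let Θ : Q ⨯ (yon S).obj T ⟶ Q ⨯ (yon S).obj T :=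
    prod.lift (prod.map (𝟙 Q) ((yon S).map t) ≫ θ) Limits.prod.snd
  let Θ' : Q ⨯ (yon S).obj T ⟶ Q ⨯ (yon S).obj T :=
    prod.lift (prod.map (𝟙 Q) ((yon S).map t) ≫ θ') Limits.prod.snd
  have hnat : ∀ f : Q ⨯ (yon S).obj H ⟶ Q,
      prod.lift (prod.map (𝟙 Q) ((yon S).map t) ≫ f) Limits.prod.snd ≫ prod.map (𝟙 Q) ((yon S).map t) =
        prod.map (𝟙 Q) ((yon S).map t) ≫ prod.lift f Limits.prod.snd := fun f => by
    apply Limits.prod.hom_ext <;> simp
  have h12 : Θ ≫ Θ' = 𝟙 _ := by
    apply Limits.prod.hom_ext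
    · simp only [Θ, Θ', Category.assoc, Limits.prod.lift_fst]
      rw [reassoc_of% hnat θ, hθ]
      exact (prod.map_fst _ _).trans ((Category.comp_id _).trans (Category.id_comp _).symm)
    · simp [Θ, Θ']
  have h21 : Θ' ≫ Θ = 𝟙 _ := by
    apply Limits.prod.hom_ext
    · simp only [Θ, Θ', Category.assoc, Limits.prod.lift_fst]
      rw [reassoc_of% hnat θ', hθ']
      exact (prod.map_fst _ _).trans ((Category.comp_id _).trans (Category.id_comp _).symm)
    · simp [Θ, Θ']
  let eΘ : Q ⨯ (yon S).obj T ≅ Q ⨯ (yon S).obj T := ⟨Θ', Θ, h21, h12⟩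
  let Y : Over S := V ⨯ T
  let lT : (yon S).obj V ⨯ (yon S).obj T ⟶ Q ⨯ (yon S).obj T := prod.map l (𝟙 _)
  have sql : IsPullback lT (Limits.prod.fst : (yon S).obj V ⨯ (yon S).obj T ⟶ _) Limits.prod.fst l :=
    ⟨⟨by simp [lT]⟩, ⟨PullbackCone.IsLimit.mk _ (fun s => Limits.prod.lift s.snd (s.fst ≫ Limits.prod.snd))
      (fun s => Limits.prod.hom_ext (by simp [lT, s.condition]) (by simp [lT]))
      (fun s => by simp) (fun s m h1 h2 => Limits.prod.hom_ext (by simpa using h2)
        (by simpa [lT] using congrArg (· ≫ Limits.prod.snd) h1))⟩⟩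
  let j : (yon S).obj Y ⟶ Q ⨯ (yon S).obj T := (yonProdIso V T).hom ≫ lT ≫ eΘ.hom
  haveI : IsIso eΘ.hom := eΘ.isIso_hom
  have hj : RepWith @IsOpenImmersion j :=
    (repWith_iso_comp_iff _ _ _).2 ((repWith_comp_iso_iff _ _ _).2 (repWith_baseChange sql.flip hlimm))
  have hYA : AFinite Y.left := by
    haveI : IsAffineHom (Limits.prod.fst : V ⨯ T ⟶ V).left := by
      have h1 : RepWith @IsFinite ((yon S).map (Limits.prod.fst : V ⨯ T ⟶ V)) := by
        rw [← yonProdIso_hom_fst]
        exact (repWith_iso_comp_iff _ _ _).2 (repWith_prod_fst @IsFinite _ T ‹_›)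
      haveI : IsFinite (Limits.prod.fst : V ⨯ T ⟶ V).left := (AlgSp.repWith_yon_map_iff _ _).1 h1
      infer_instance
    exact hWA.of_isAffineHom (Limits.prod.fst : V ⨯ T ⟶ V).left
  suffices hx : ∀ p, Points.map (Limits.prod.fst : Q ⨯ (yon S).obj T ⟶ Q) p = Points.ofPt q u →
      p ∈ Set.range (Points.map j) by
    obtain ⟨M, l', hl', hxl⟩ := exists_open_scheme_nhd hQ hYA hj (Points.ofPt q u) hx
    exact hmax M l' hl' hxl
  intro p hp
  have hc : Points.map cq (Points.schemeHomeo C (IsLocalRing.closedPoint (U.left.residueField u))) =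
      Points.ofPt q u := by
    rw [Points.map_comp, Points.map_yon_map_apply]
    show Points.map q (Points.schemeHomeo U ((U.left.fromSpecResidueField u) _)) = _
    rw [Scheme.fromSpecResidueField_apply]
    exact (Points.ofPt_eq_map_ofScheme q u).symm
  have sqc : IsPullback (prod.map cq (𝟙 _)) (Limits.prod.fst : (yon S).obj C ⨯ (yon S).obj T ⟶ _)
      Limits.prod.fst cq :=
    ⟨⟨by simp⟩, ⟨PullbackCone.IsLimit.mk _ (fun s => Limits.prod.lift s.snd (s.fst ≫ Limits.prod.snd))
      (fun s => Limits.prod.hom_ext (by simp [s.condition]) (by simp))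
      (fun s => by simp) (fun s m h1 h2 => Limits.prod.hom_ext (by simpa using h2)
        (by simpa using congrArg (· ≫ Limits.prod.snd) h1))⟩⟩
  obtain ⟨p', hp'1, -⟩ := exists_of_isPullback sqc p _ (hp.trans hc.symm)
  have key : Points.map Limits.prod.fst (Points.map Θ p) ∈ Set.range (Points.map l) := by
    let w : Points ((yon S).obj (C ⨯ H)) :=
      Points.map (prod.map (𝟙 _) ((yon S).map t) ≫ (yonProdIso C H).inv) p'
    have h1 : Points.map Limits.prod.fst (Points.map Θ p) = Points.map τ w := by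
      rw [← hp'1, ← Points.map_comp, ← Points.map_comp, ← Points.map_comp]
      congr 1
      simp [Θ, τ]
    obtain ⟨z, hz⟩ := (Points.schemeHomeo (C ⨯ H)).surjective w
    have hzh : pH z = h := by
      apply (Points.schemeHomeo H).injective
      rw [← Points.map_yon_map_apply (Limits.prod.snd : C ⨯ H ⟶ H), hz, ← Points.map_comp]
      have e : (prod.map (𝟙 ((yon S).obj C)) ((yon S).map t) ≫ (yonProdIso C H).inv) ≫
          (yon S).map (Limits.prod.snd : C ⨯ H ⟶ H) = Limits.prod.snd ≫ (yon S).map t := by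
        rw [Category.assoc, ← yonProdIso_hom_snd, Iso.inv_hom_id_assoc]
        exact prod.map_snd _ _
      rw [e, Points.map_comp]
      obtain ⟨a, ha⟩ := (Points.schemeHomeo T).surjective
        (Points.map (Limits.prod.snd : (yon S).obj C ⨯ (yon S).obj T ⟶ _) p')
      rw [← ha, Points.map_yon_map_apply]
      congr 1
      exact Scheme.fromSpecResidueField_apply (X := H.left) h a
    have hzO : z ∈ O := by
      by_contra hc'
      exact hhO (hzh ▸ ⟨z, hc', rfl⟩)
    rw [h1, ← hz]
    rw [Set.mem_preimage, Points.ofPt_eq_map_ofScheme] at hzO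
    exact hzO
  obtain ⟨y, hy⟩ := key
  obtain ⟨p'', hp''1, -⟩ := exists_of_isPullback sql (Points.map Θ p) y hy.symm
  refine ⟨Points.map (yonProdIso V T).inv p'', ?_⟩
  rw [← Points.map_comp, Iso.inv_hom_id_assoc, Points.map_comp, hp''1, ← Points.map_comp]
  show Points.map (Θ ≫ Θ') p = p
  rw [h12, Points.map_id]

end Groth.Agent.Lib.SpHomog
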