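import Groth.Agent.Lib.SpHomog.ArtQuot
import Groth.Agent.Lib.ActSep.CompQC
import Groth.Agent.Lib.ActSep.GrpArt
import Groth.Agent.H2.FibreDimPullback
import Groth.Agent.Lib.AlgSpDecent.FibreDimPts
import Groth.Agent.Lib.AlgSpDecent.FlatRelDim

/-!
Components and dimension of a quotient `F \ G` over a local artinian ring.
-/

set_option autoImplicit false
set_option linter.style.haveILetI false

universe u

open CategoryTheory CategoryTheory.Limits MonoidalCategory CartesianMonoidalCategory MonObj GrpObj AlgebraicGeometry Topology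

namespace Groth.Agent.Lib.SpHomog

open Groth.Agent.Lib.ActSep Groth.Agent.Lib.ActSep.MaxPt Groth.Agent.Lib.GrpSch

variable {A : Type u} [CommRing A] [IsArtinianRing A] [IsLocalRing A]
variable {F G : Over (Spec (CommRingCat.of A))} [GrpObj F] [GrpObj G]

/-- Every point of a group scheme lft over an artinian local ring lies on a clopen irreducible compact set. -/
theorem exists_clopen_irreducible [LocallyOfFiniteType G.hom] (g : G.left) :
    ∃ U : Set G.left, IsClopen U ∧ IsIrreducible U ∧ IsCompact U ∧ g ∈ U := by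
  let t := geomPt A
  haveI : IsIntegralHom t := isIntegralHom_geomPt (A := A)
  haveI : UniversallyOpen t := by
    haveI : UniversallyOpen (clPt A) := Groth.Agent.Lib.UnivHomeo.Basic.universallyOpen
      (Groth.Agent.Lib.UnivHomeo.Basic.of_isClosedImmersion_surjective _)
    show UniversallyOpen (Spec.map _ ≫ clPt A)
    infer_instance
  haveI : Surjective t := surjective_geomPt (A := A)
  have sq := isPullback_left G (Over.mk t)
  let p : (G ⊗ Over.mk t).left ⟶ G.left := (fst G (Over.mk t)).left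
  haveI : UniversallyOpen p := MorphismProperty.of_isPullback sq.flip ‹UniversallyOpen t›
  haveI : Surjective p := MorphismProperty.of_isPullback sq.flip ‹Surjective t›
  haveI : IsIntegralHom p := MorphismProperty.of_isPullback sq.flip ‹IsIntegralHom t›
  obtain ⟨z, rfl⟩ := p.surjective g
  obtain ⟨ξ, hξ, hz⟩ := exists_isMaxPt (G ⊗ Over.mk t).left z
  obtain ⟨ho, hc⟩ := isOpen_isCompact_closure_of_isMaxPt G t hξ
  exact ⟨p '' closure {ξ}, ⟨p.isClosedMap _ isClosed_closure, p.isOpenMap _ ho⟩,
    isIrreducible_singleton.closure.image _ p.continuous.continuousOn, hc.image p.continuous,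
    z, hz.mem_closure, rfl⟩

/-- A quotient of a space covered by clopen irreducible compact sets with quasi-compact fibres. -/
theorem connectedComponent_quotient {α β : Type u} [TopologicalSpace α] [TopologicalSpace β] [QuasiSober β]
    {p : α → β} (hp : Continuous p) (hpo : IsOpenMap p) (hps : Function.Surjective p)
    (hfib : ∀ y, IsCompact (p ⁻¹' {y}))
    (hU : ∀ a, ∃ U : Set α, IsClopen U ∧ IsIrreducible U ∧ IsCompact U ∧ a ∈ U) (x : β) :
    IsIrreducible (connectedComponent x) ∧ IsCompact (connectedComponent x) ∧ IsOpen (connectedComponent x) := by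
  choose U hUc hUi hUk hUm using hU
  have hcomp : ∀ a b, b ∈ U a → U a ⊆ U b := fun a b h =>
    ((hUi a).isConnected.isPreconnected.subset_connectedComponent h).trans
      ((hUc b).connectedComponent_subset (hUm b))
  obtain ⟨a₀, rfl⟩ := hps x
  have hi : ∀ a, IsIrreducible (p '' U a) := fun a => (hUi a).image _ hp.continuousOn
  have ho : ∀ a, IsOpen (p '' U a) := fun a => hpo _ (hUc a).isOpen
  obtain ⟨ξ, hξ⟩ := QuasiSober.sober (hi a₀).closure isClosed_closure
  have hξ₀ : ξ ∈ p '' U a₀ :=
    (hξ.mem_open_set_iff (ho a₀)).2 ⟨p a₀, subset_closure ⟨a₀, hUm a₀, rfl⟩, a₀, hUm a₀, rfl⟩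
  obtain ⟨t, ht⟩ := (hfib ξ).elim_finite_subcover U (fun a => (hUc a).isOpen)
    fun a _ => Set.mem_iUnion.2 ⟨a, hUm a⟩
  let t' : Set α := {a | a ∈ t ∧ ξ ∈ p '' U a}
  let W : Set β := ⋃ a ∈ t', p '' U a
  have hξW : ξ ∈ W := by
    obtain ⟨b, hb, hbξ⟩ := hξ₀
    obtain ⟨a, ha, hba⟩ := Set.mem_iUnion₂.1 (ht (show p b ∈ ({ξ} : Set β) from hbξ))
    exact Set.mem_biUnion (show a ∈ t' from ⟨ha, b, hba, hbξ⟩) ⟨b, hba, hbξ⟩
  -- an open irreducible image through `ξ` lies in the closure of `ξ`
  have hcl : ∀ a, ξ ∈ p '' U a → p '' U a ⊆ closure {ξ} := fun a ha => by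
    refine (subset_closure_inter_of_isPreirreducible_of_isOpen (hi a).2 (ho a₀) ⟨ξ, ha, hξ₀⟩).trans ?_
    rw [hξ.def]
    exact closure_mono Set.inter_subset_right
  have hWc : W ⊆ closure {ξ} := Set.iUnion₂_subset fun a ha => hcl a ha.2
  have hWo : IsOpen W := isOpen_biUnion fun a _ => ho a
  have hWclosed : IsClosed W := by
    rw [← isOpen_compl_iff, isOpen_iff_forall_mem_open]
    intro y hy
    obtain ⟨b, rfl⟩ := hps y
    refine ⟨p '' U b, fun y' hy' hy'W => hy ?_, ho b, b, hUm b, rfl⟩
    have hξb : ξ ∈ p '' U b := by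
      obtain ⟨z, hz, hzξ⟩ := mem_closure_iff.1 (hWc hy'W) (p '' U b) (ho b) hy'
      rwa [Set.mem_singleton_iff.1 hzξ] at hz
    obtain ⟨c, hc, hcξ⟩ := hξb
    obtain ⟨a, ha, hca⟩ := Set.mem_iUnion₂.1 (ht (show p c ∈ ({ξ} : Set β) from hcξ))
    refine Set.mem_biUnion (show a ∈ t' from ⟨ha, c, hca, hcξ⟩) ⟨b, ?_, rfl⟩
    exact ((hUi b).isConnected.isPreconnected.subset_connectedComponent hc).trans
      ((hUc a).connectedComponent_subset hca) (hUm b)
  have hWi : IsIrreducible W := ⟨⟨ξ, hξW⟩, fun V₁ V₂ h1 h2 ⟨y₁, hy₁, hy₁'⟩ ⟨y₂, hy₂, hy₂'⟩ => by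
    obtain ⟨z₁, hz₁, e₁⟩ := mem_closure_iff.1 (hWc hy₁) V₁ h1 hy₁'
    obtain ⟨z₂, hz₂, e₂⟩ := mem_closure_iff.1 (hWc hy₂) V₂ h2 hy₂'
    rw [Set.mem_singleton_iff] at e₁ e₂
    exact ⟨ξ, hξW, e₁ ▸ hz₁, e₂ ▸ hz₂⟩⟩
  have hx : p a₀ ∈ W := by
    obtain ⟨b, hb, hbξ⟩ := hξ₀
    obtain ⟨a, ha, hba⟩ := Set.mem_iUnion₂.1 (ht (show p b ∈ ({ξ} : Set β) from hbξ))
    refine Set.mem_biUnion (show a ∈ t' from ⟨ha, b, hba, hbξ⟩) ⟨a₀, ?_, rfl⟩
    exact ((hUi a₀).isConnected.isPreconnected.subset_connectedComponent hb).trans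
      ((hUc a).connectedComponent_subset hba) (hUm a₀)
  have heq : connectedComponent (p a₀) = W := Set.Subset.antisymm
    (IsClopen.connectedComponent_subset ⟨hWclosed, hWo⟩ hx)
    (hWi.isConnected.isPreconnected.subset_connectedComponent hx)
  rw [heq]
  refine ⟨hWi, ?_, hWo⟩
  exact (t.finite_toSet.subset fun a (ha : a ∈ t') => ha.1).isCompact_biUnion fun a _ => (hUk a).image hp

/-- The local dimension of a group scheme lft over an artinian local ring is its dimension. -/
theorem localDim_eq_dim (H : Over (Spec (CommRingCat.of A))) [GrpObj H] [LocallyOfFiniteType H.hom] (x : H.left) :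
    FlatMor.localDim ↥H.left x = topologicalKrullDim ↥H.left := by
  let H₀ := (Over.pullback (clPt A)).obj H
  haveI : LocallyOfFiniteType H₀.hom := inferInstanceAs (LocallyOfFiniteType (pullback.snd H.hom (clPt A)))
  haveI : IsClosedImmersion (incl H).left := isClosedImmersion_incl H
  haveI : Surjective (incl H).left := surjective_incl H
  have hh : IsHomeomorph (incl H).left :=
    isHomeomorph_iff_isEmbedding_surjective.2 ⟨(incl H).left.isClosedEmbedding.isEmbedding, (incl H).left.surjective⟩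
  obtain ⟨y, rfl⟩ := (incl H).left.surjective x
  have h1 := localDim_eq_topologicalKrullDim H₀ y
  have h2 := Groth.Agent.Lib.FibreDim.Basic.localDim_eq_of_homeomorph hh.homeomorph y
  have h3 := IsHomeomorph.topologicalKrullDim_eq _ hh
  exact (show FlatMor.localDim ↥H.left ((incl H).left y) = _ from h2).trans (h1.trans h3)

theorem exists_localDim_nat {X : Over (Spec (CommRingCat.of A))} [LocallyOfFiniteType X.hom] (x : X.left) :
    ∃ n : ℕ, FlatMor.localDim ↥X.left x = (n : WithBot ℕ∞) := by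
  haveI : Subsingleton ↥(Spec (CommRingCat.of A)) := subsingleton_primeSpectrum A
  obtain ⟨n, hn⟩ := Groth.Agent.Lib.FibreDim.Chart.exists_fibreDimAt_eq X.hom x
  exact ⟨n, (Groth.Agent.Lib.AlgSpDecent.FibreDimPts.fibreDimAt_eq_localDim X.hom x).symm.trans hn⟩

theorem localDim_quotient [LocallyOfFiniteType F.hom] [LocallyOfFiniteType G.hom] (u : F ⟶ G)
    {X : Over (Spec (CommRingCat.of A))} [LocallyOfFiniteType X.hom] (p : G ⟶ X) [Flat p.left] [Surjective p.left]
    (sq : IsPullback (tMap u) (snd F G) p p) (x : X.left) :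
    FlatMor.localDim ↥X.left x + topologicalKrullDim ↥F.left = topologicalKrullDim ↥G.left := by
  haveI : Subsingleton ↥(Spec (CommRingCat.of A)) := subsingleton_primeSpectrum A
  haveI : IsLocallyNoetherian X.left := LocallyOfFiniteType.isLocallyNoetherian X.hom
  haveI : LocallyOfFiniteType (p.left ≫ X.hom) := by rw [Over.w]; infer_instance
  haveI : LocallyOfFiniteType p.left := locallyOfFiniteType_of_comp p.left X.hom
  obtain ⟨d, hd⟩ := exists_localDim_nat (η[F].left (IsLocalRing.closedPoint A))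
  rw [localDim_eq_dim F] at hd
  have sq' : IsPullback (tMap u).left (snd F G).left p.left p.left := sq.map (Over.forget _)
  haveI : Surjective (tMap u).left := MorphismProperty.of_isPullback sq'.flip ‹Surjective p.left›
  have sqF : IsPullback (fst F G).left (snd F G).left F.hom G.hom := isPullback_left F G
  have hconst : ∀ a : G.left, FlatMor.fibreDimAt p.left a = (d : WithBot ℕ∞) := fun a => by
    obtain ⟨z, rfl⟩ := (tMap u).left.surjective a
    rw [← Groth.Agent.H2.FibreDimPullback.fibreDimAt_of_isPullback sq' z,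
      Groth.Agent.H2.FibreDimPullback.fibreDimAt_of_isPullback sqF z,
      Groth.Agent.Lib.AlgSpDecent.FibreDimPts.fibreDimAt_eq_localDim, localDim_eq_dim F, hd]
  obtain ⟨g, rfl⟩ := p.left.surjective x
  rw [hd, ← localDim_eq_dim G g, Groth.Agent.Lib.AlgSpDecent.FlatRelDim.localDim_eq p.left d hconst g]

theorem components_quotient [LocallyOfFiniteType F.hom] [QuasiCompact F.hom] [LocallyOfFiniteType G.hom] (u : F ⟶ G)
    {X : Over (Spec (CommRingCat.of A))} [LocallyOfFiniteType X.hom] (p : G ⟶ X) [Flat p.left] [Surjective p.left]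
    [LocallyOfFinitePresentation p.left]
    (sq : IsPullback (tMap u) (snd F G) p p) (x : X.left) :
    IsIrreducible (connectedComponent x) ∧ IsCompact (connectedComponent x) ∧
      topologicalKrullDim ↥(connectedComponent x) + topologicalKrullDim ↥F.left = topologicalKrullDim ↥G.left := by
  have sq' : IsPullback (tMap u).left (snd F G).left p.left p.left := sq.map (Over.forget _)
  haveI : QuasiCompact (snd F G).left := GrpSch.snd_left_of (P := @QuasiCompact) G ‹_›
  have hfib : ∀ y, IsCompact (p.left ⁻¹' {y}) := fun y => by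
    obtain ⟨g₀, rfl⟩ := p.left.surjective y
    have : p.left ⁻¹' {p.left g₀} = (tMap u).left '' ((snd F G).left ⁻¹' {g₀}) := by
      ext g
      refine ⟨fun hg => ?_, fun ⟨z, hz, e⟩ => ?_⟩
      · obtain ⟨z, hz1, hz2⟩ := Scheme.exists_preimage_of_isPullback sq' g g₀ hg
        exact ⟨z, hz2, hz1⟩
      · show p.left g = p.left g₀
        rw [← e, ← Scheme.Hom.comp_apply, sq'.w, Scheme.Hom.comp_apply, hz]
    rw [this]
    exact ((snd F G).left.isCompact_preimage_singleton g₀).image (tMap u).left.continuous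
  obtain ⟨hi, hc, ho⟩ := connectedComponent_quotient p.left.continuous p.left.isOpenMap p.left.surjective hfib
    (exists_clopen_irreducible (G := G)) x
  refine ⟨hi, hc, ?_⟩
  have hd := localDim_quotient u p sq
  obtain ⟨n, hn⟩ := exists_localDim_nat x
  obtain ⟨m, hm⟩ := exists_localDim_nat (X := F) (η[F].left (IsLocalRing.closedPoint A))
  rw [localDim_eq_dim F] at hm
  have key : ∀ y, FlatMor.localDim ↥X.left y = (n : WithBot ℕ∞) := fun y => by
    obtain ⟨k, hk⟩ := exists_localDim_nat y
    have h := (hd y).trans (hd x).symm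
    rw [hk, hn, hm, ← Nat.cast_add, ← Nat.cast_add, Nat.cast_inj, add_left_inj] at h
    rw [hk, h]
  have hemb := ho.isOpenEmbedding_subtypeVal
  have hC : topologicalKrullDim ↥(connectedComponent x) = (n : WithBot ℕ∞) := by
    refine le_antisymm (Groth.Agent.Lib.FibreDim.Basic.topologicalKrullDim_le_of_forall fun c => ?_) ?_
    · rw [← Groth.Agent.Lib.FibreDim.Basic.localDim_eq_of_isOpenEmbedding hemb c, key]
    · rw [← key x]
      exact iInf_le_of_le ⟨⟨_, ho⟩, mem_connectedComponent⟩ le_rfl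
  rw [hC, ← hn]
  exact hd x

end Groth.Agent.Lib.SpHomog
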