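import Groth.Agent.Lib.GrpdQuot.Invariant
import Mathlib.AlgebraicGeometry.Limits
import Mathlib.Order.Zorn

/-!
Every scheme has a dense open subscheme in which finite sets lie in affine opens.
-/

set_option autoImplicit false

universe u

open CategoryTheory CategoryTheory.Limits AlgebraicGeometry TopologicalSpace

namespace Groth.Agent.Lib.SpHomog

/-- Finite sets of points lie in affine opens. -/
def AFinite (X : Scheme.{u}) : Prop :=
  ∀ s : Set X, s.Finite → ∃ W : X.Opens, IsAffineOpen W ∧ s ⊆ W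

theorem AFinite.of_isOpenImmersion {X Y : Scheme.{u}} (h : AFinite X) (j : Y ⟶ X) [IsOpenImmersion j] :
    AFinite Y := by
  intro s hs
  obtain ⟨W, hW, hsW⟩ := h (j '' s) (hs.image j)
  obtain ⟨f, hfle, hsub⟩ := GrpdQuot.exists_basicOpen_le_of_finite (W := j.opensRange) hW (j '' s)
    (hs.image j) (by rintro _ ⟨y, -, rfl⟩; exact ⟨y, rfl⟩) hsW
  refine ⟨j ⁻¹ᵁ X.basicOpen f, (j.isAffineOpen_iff_of_isOpenImmersion).1 ?_, fun y hy => hsub ⟨y, hy, rfl⟩⟩
  rw [Scheme.Hom.image_preimage_eq_opensRange_inf, inf_eq_right.2 hfle]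
  exact hW.basicOpen f

theorem AFinite.of_isAffineHom {X Y : Scheme.{u}} (h : AFinite X) (f : Y ⟶ X) [IsAffineHom f] :
    AFinite Y := fun s hs => by
  obtain ⟨W, hW, hsW⟩ := h (f '' s) (hs.image f)
  exact ⟨f ⁻¹ᵁ W, hW.preimage f, fun y hy => hsW ⟨y, hy, rfl⟩⟩

theorem exists_dense_afinite (X : Scheme.{u}) :
    ∃ W : X.Opens, Dense (W : Set X) ∧ AFinite W.toScheme := by
  classical
  let P : Set (Set X.Opens) :=
    {F | (∀ U ∈ F, IsAffineOpen U ∧ (U : Set X).Nonempty) ∧ F.Pairwise Disjoint}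
  obtain ⟨F, hmax⟩ := zorn_subset P fun c hc hchain => ⟨⋃₀ c, ⟨fun U ⟨A, hA, hU⟩ => (hc hA).1 U hU,
    (Set.pairwise_sUnion hchain.directedOn).2 fun A hA => (hc hA).2⟩, fun A hA => Set.subset_sUnion_of_mem hA⟩
  obtain ⟨haff, hdis⟩ := hmax.prop
  let W : X.Opens := sSup F
  refine ⟨W, dense_iff_inter_open.2 fun O hO ⟨x, hx⟩ => ?_, fun s hs => ?_⟩
  · by_contra hne
    obtain ⟨V, hV, hxV, hVO⟩ := exists_isAffineOpen_mem_and_subset (U := ⟨O, hO⟩) (x := x) hx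
    have hd : ∀ U ∈ F, Disjoint V U := fun U hU => by
      rw [disjoint_iff, eq_bot_iff]
      exact fun y hy => hne ⟨y, hVO hy.1, Opens.mem_sSup.2 ⟨U, hU, hy.2⟩⟩
    have hP : insert V F ∈ P := by
      refine ⟨?_, hdis.insert fun U hU _ => ⟨hd U hU, (hd U hU).symm⟩⟩
      rintro U (rfl | hU)
      · exact ⟨hV, ⟨x, hxV⟩⟩
      · exact haff U hU
    exact hne ⟨x, hx, Opens.mem_sSup.2 ⟨V, hmax.le_of_ge hP (Set.subset_insert V F) (Set.mem_insert V F), hxV⟩⟩
  · have hmem : ∀ y : W.toScheme, ∃ U ∈ F, W.ι y ∈ U := fun y => Opens.mem_sSup.1 y.2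
    choose U hU hyU using hmem
    have hfin : (U '' s).Finite := hs.image U
    have hsub : U '' s ⊆ F := by rintro _ ⟨y, -, rfl⟩; exact hU y
    let A : X.Opens := ⨆ V ∈ U '' s, V
    have hA : IsAffineOpen A := IsAffineOpen.biSup_of_disjoint hfin (U := fun V => V)
      (fun V hV => (haff V (hsub hV)).1) (hdis.mono hsub)
    refine ⟨W.ι ⁻¹ᵁ A, (W.ι.isAffineOpen_iff_of_isOpenImmersion).1 ?_, fun y hy => ?_⟩
    · rw [Scheme.Hom.image_preimage_eq_opensRange_inf, Scheme.Opens.opensRange_ι, inf_eq_right.2]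
      · exact hA
      · exact iSup₂_le fun V hV => le_sSup (hsub hV)
    · exact Opens.mem_iSup.2 ⟨U y, Opens.mem_iSup.2 ⟨⟨y, hy, rfl⟩, hyU y⟩⟩

end Groth.Agent.Lib.SpHomog
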