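import Groth.Agent.Lib.SpHomog.Scattered
import Groth.Agent.Lib.GrpdQuot.OfEqvRel
import Groth.Agent.Lib.AlgSpace.OpenSubExists
import Groth.Agent.Lib.AlgSpMor.Proper

/-!
A point of an algebraic space whose fibre in a finite locally free cover lies in a scheme with enough
affines has an open subscheme as neighbourhood.
-/

set_option autoImplicit false
set_option linter.style.haveILetI false

universe u

open CategoryTheory CategoryTheory.Limits AlgebraicGeometry Opposite

namespace Groth.Agent.Lib.SpHomog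

open Groth.Agent.Lib.AlgSpace
open AlgSp

variable {S : Scheme.{u}}

/-- The terminal sheaf. -/
abbrev top (S : Scheme.{u}) : Over S := Over.mk (𝟙 S)

theorem hom_top_eq {F : Sp S} (a b : F ⟶ (yon S).obj (top S)) : a = b :=
  hom_ext fun T c => by
    obtain ⟨x, hx⟩ := (yon S).map_surjective (c ≫ a)
    obtain ⟨y, hy⟩ := (yon S).map_surjective (c ≫ b)
    rw [← hx, ← hy]
    exact congrArg _ (Over.OverMorphism.ext ((Category.comp_id _).symm.trans
      ((Over.w x).trans ((Over.w y).symm.trans (Category.comp_id _)))))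

/-- The map of a scheme to the base. -/
abbrev toTop (T : Over S) : T ⟶ top S := Over.homMk T.hom (Category.comp_id _)

theorem exists_toTop (F : Sp S) : ∃ f : F ⟶ (yon S).obj (top S), True :=
  ⟨homMkYon (fun T _ => (yon S).map (toTop T)) fun {_ _} _ _ => hom_top_eq _ _, trivial⟩

theorem isPullback_prod (F : Sp S) (T : Over S) (f : F ⟶ (yon S).obj (top S)) :
    IsPullback (Limits.prod.fst : F ⨯ (yon S).obj T ⟶ F) Limits.prod.snd f ((yon S).map (toTop T)) :=
  ⟨⟨hom_top_eq _ _⟩, ⟨PullbackCone.IsLimit.mk _ (fun s => Limits.prod.lift s.fst s.snd)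
    (fun s => Limits.prod.lift_fst _ _) (fun s => Limits.prod.lift_snd _ _)
    (fun s m h1 h2 => Limits.prod.hom_ext (by rw [Limits.prod.lift_fst]; exact h1)
      (by rw [Limits.prod.lift_snd]; exact h2))⟩⟩

theorem repWith_prod_fst (P : MorphismProperty Scheme.{u}) [P.IsStableUnderBaseChange] (F : Sp S) (T : Over S)
    (h : P T.hom) : RepWith P (Limits.prod.fst : F ⨯ (yon S).obj T ⟶ F) := by
  obtain ⟨f, -⟩ := exists_toTop F
  exact repWith_baseChange (isPullback_prod F T f).flip ((AlgSp.repWith_yon_map_iff P _).2 h)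

/-- The neighbourhood lemma. -/
theorem exists_open_scheme_nhd {Q : Sp S} (hQ : IsAlgSpace Q) {T : Over S} [IsFinite T.hom] [Flat T.hom]
    [LocallyOfFinitePresentation T.hom] [Surjective T.hom] {Y : Over S} (hY : AFinite Y.left)
    {j : (yon S).obj Y ⟶ Q ⨯ (yon S).obj T} (hj : RepWith @IsOpenImmersion j) (x : Points Q)
    (hx : ∀ p, Points.map (Limits.prod.fst : Q ⨯ (yon S).obj T ⟶ Q) p = x → p ∈ Set.range (Points.map j)) :
    ∃ (M : Over S) (l : (yon S).obj M ⟶ Q), RepWith @IsOpenImmersion l ∧ x ∈ Set.range (Points.map l) := by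
  let pr : Q ⨯ (yon S).obj T ⟶ Q := Limits.prod.fst
  have hpr1 : RepWith @IsFinite pr := repWith_prod_fst @IsFinite Q T ‹_›
  have hpr2 : RepWith @Flat pr := repWith_prod_fst @Flat Q T ‹_›
  have hpr3 : RepWith @LocallyOfFinitePresentation pr := repWith_prod_fst @LocallyOfFinitePresentation Q T ‹_›
  have hpr4 : RepWith @Surjective pr := repWith_prod_fst @Surjective Q T ‹_›
  have hclosed : IsClosedMap (Points.map pr) :=
    AlgSpMor.Proper.isClosedMap_of_isUnivClosedMor hQ (AlgSpMor.Proper.isUnivClosedMor_of_repWith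
      (repWith_mono hpr1 fun _ _ g (_ : IsFinite g) ↦ (inferInstance : UniversallyClosed g)))
  obtain ⟨F, l, hF, hl, hlr⟩ := exists_open_subspace hQ
    (hclosed _ (isOpenEmbedding_map hj).isOpen_range.isClosed_compl).isOpen_compl
  have hxl : x ∈ Set.range (Points.map l) := hlr.ge (by
    rintro ⟨p, hp, hpx⟩
    exact hp (hx p hpx))
  have sqP := IsPullback.of_hasPullback l pr
  let b : pullback l pr ⟶ Q ⨯ (yon S).obj T := pullback.snd l pr
  obtain ⟨e, he⟩ := (exists_lift_iff_range_subset hj b).2 (by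
    rintro _ ⟨p, rfl⟩
    by_contra hp
    have h1 : Points.map pr (Points.map b p) ∈ Set.range (Points.map l) :=
      ⟨Points.map (pullback.fst l pr) p, by rw [← Points.map_comp, ← Points.map_comp, sqP.w]⟩
    exact hlr.subset h1 ⟨_, hp, rfl⟩)
  have : Mono j := mono_of_repWith (P := @IsOpenImmersion)
    (fun _ _ g (_ : IsOpenImmersion g) ↦ (inferInstance : Mono g)) hj
  have sqe : IsPullback (𝟙 (pullback l pr)) e b j :=
    ⟨⟨by rw [Category.id_comp, he]⟩, ⟨PullbackCone.IsLimit.mk _ (fun s => s.fst) (fun s => Category.comp_id _)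
      (fun s => by rw [← cancel_mono j, Category.assoc, he, s.condition])
      (fun s m h1 _ => by simpa using h1)⟩⟩
  obtain ⟨Y₀, w, v, sqv, hw⟩ := repWith_exists (repWith_baseChange sqe (repWith_baseChange sqP hl)) (𝟙 _)
  haveI : IsIso v := sqv.isIso_fst_of_isIso
  haveI : IsOpenImmersion w.left := hw
  let π : (yon S).obj Y₀ ⟶ F := v ≫ pullback.fst l pr
  have hbc : ∀ (P : MorphismProperty Scheme.{u}) [P.IsStableUnderBaseChange], RepWith P pr → RepWith P π :=
    fun P _ h => (repWith_iso_comp_iff P v _).2 (repWith_baseChange sqP.flip h)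
  have hπ1 := hbc @IsFinite hpr1
  have hπ2 := hbc @Flat hpr2
  have hπ3 := hbc @LocallyOfFinitePresentation hpr3
  have hπ4 := hbc @Surjective hpr4
  haveI := isLocallySurjective_of_repWith hπ2 hπ3 hπ4
  obtain ⟨R, t, s, sq⟩ := exists_isPullback_yon hF.diag π π
  have hR : IsEqvRel s t := by
    refine ⟨fun Z r r' h1 h2 => (yon S).map_injective (sq.hom_ext ?_ ?_), fun Z => ?_⟩
    · rw [← Functor.map_comp, ← Functor.map_comp, h1]
    · rw [← Functor.map_comp, ← Functor.map_comp, h2]
    · have key : ∀ a b : Z ⟶ Y₀, (∃ r : Z ⟶ R, r ≫ t = a ∧ r ≫ s = b) ↔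
          (yon S).map a ≫ π = (yon S).map b ≫ π := fun a b => by
        refine ⟨?_, fun h => ?_⟩
        · rintro ⟨r, rfl, rfl⟩
          rw [Functor.map_comp, Functor.map_comp, Category.assoc, Category.assoc, sq.w]
        · obtain ⟨r, hr⟩ := (yon S).map_surjective (sq.lift _ _ h)
          exact ⟨r, (yon S).map_injective (by rw [Functor.map_comp, hr, sq.lift_fst]),
            (yon S).map_injective (by rw [Functor.map_comp, hr, sq.lift_snd])⟩
      exact ⟨fun a => (key a a).2 rfl, fun {a b} h => (key b a).2 ((key a b).1 h).symm,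
        fun {a b c} h h' => (key a c).2 (((key a b).1 h).trans ((key b c).1 h'))⟩
  haveI : IsFinite s.left := repWith_property hπ1 sq
  haveI : Flat s.left := repWith_property hπ2 sq
  haveI : LocallyOfFinitePresentation s.left := repWith_property hπ3 sq
  haveI : IsFinite t.left := repWith_property hπ1 sq.flip
  haveI : Flat t.left := repWith_property hπ2 sq.flip
  haveI : LocallyOfFinitePresentation t.left := repWith_property hπ3 sq.flip
  obtain ⟨M, q, ⟨-, hq1, hq2⟩, hq3, sqM⟩ := GrpdQuot.exists_scheme_quotient_of_eqvRel hR fun u => by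
    obtain ⟨W, hW, hsW⟩ := hY.of_isOpenImmersion w.left (t.left '' (s.left ⁻¹' {u}))
      ((IsFinite.finite_preimage_singleton s.left u).image _)
    exact ⟨W, hW, fun r hr => hsW ⟨r, hr, rfl⟩⟩
  haveI := hq1; haveI := hq2; haveI := hq3
  haveI := isLocallySurjective_yon_map q (fppfCover_mk q.left)
  have sqy := GrpdQuot.isPullback_yon_of_left (s := s) (t := t) sqM
  obtain ⟨α, hα⟩ := exists_desc π sq ((yon S).map q) sqy.w
  obtain ⟨β, hβ⟩ := exists_desc ((yon S).map q) sqy π sq.w
  haveI : Epi π := (Sheaf.isLocallySurjective_iff_epi' (Type (u + 1)) π).1 inferInstance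
  haveI : Epi ((yon S).map q) := (Sheaf.isLocallySurjective_iff_epi' (Type (u + 1)) _).1 inferInstance
  haveI : IsIso β := ⟨α, by rw [← cancel_epi ((yon S).map q), reassoc_of% hβ, hα, Category.comp_id],
    by rw [← cancel_epi π, reassoc_of% hα, hβ, Category.comp_id]⟩
  refine ⟨M, β ≫ l, (repWith_iso_comp_iff _ β _).2 hl, ?_⟩
  obtain ⟨y, hy⟩ := hxl
  exact ⟨Points.map (inv β) y, by rw [← Points.map_comp, IsIso.inv_hom_id_assoc, hy]⟩

end Groth.Agent.Lib.SpHomog
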