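import Groth.Agent.Lib.SpHomog.Criterion
import Groth.Agent.Lib.GrpSch.Basic
import Groth.Agent.Lib.Bootstrap.Quot
import Groth.Agent.Lib.Bootstrap.SpQuot
import Groth.Agent.Lib.AlgSpDecent.QS
import Groth.Prelude.Def_AlgGrp

/-!
The quotient `F \ G` of a group scheme by left translations of a subgroup; over a field it is a scheme.
-/

set_option autoImplicit false
set_option linter.style.haveILetI false

universe u

open CategoryTheory CategoryTheory.Limits MonoidalCategory CartesianMonoidalCategory MonObj GrpObj AlgebraicGeometry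

namespace Groth.Agent.Lib.SpHomog

open Groth.Agent.Lib.AlgSpace
open AlgSp (Sp yon Representable RepWith IsAlgSpace IsEqvRel IsDecent Points)

attribute [local simp] prod.lift_fst prod.lift_snd prod.map_fst prod.map_snd

variable {S : Scheme.{u}} {F G : Over S} [GrpObj F] [GrpObj G] (u : F ⟶ G) [IsMonHom u]

/-- The action of `F` on `G` by left translations. -/
noncomputable abbrev tMap : F ⊗ G ⟶ G := (u ▷ G) ≫ μ[G]

theorem lift_tMap {T : Over S} (f : T ⟶ F) (g : T ⟶ G) : lift f g ≫ tMap u = (f ≫ u) * g := by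
  rw [lift_whiskerRight_assoc, Hom.mul_def]

theorem eq_lift {T A B : Over S} (r : T ⟶ A ⊗ B) : r = lift (r ≫ fst A B) (r ≫ snd A B) := by
  rw [← comp_lift, lift_fst_snd, Category.comp_id]

theorem isEqvRel_left [Mono u] : IsEqvRel (snd F G) (tMap u) where
  injective T r r' h1 h2 := by
    rw [eq_lift r, eq_lift r'] at h1 ⊢
    rw [lift_tMap, lift_tMap, h2, mul_left_inj, cancel_mono] at h1
    rw [h1, h2]
  equivalence T := by
    have key : ∀ a b : T ⟶ G, (∃ r : T ⟶ F ⊗ G, r ≫ tMap u = a ∧ r ≫ snd F G = b) ↔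
        ∃ f : T ⟶ F, a = (f ≫ u) * b := fun a b => by
      refine ⟨?_, fun ⟨f, hf⟩ => ⟨lift f b, by rw [lift_tMap, hf], lift_snd _ _⟩⟩
      rintro ⟨r, rfl, rfl⟩
      exact ⟨r ≫ fst F G, by rw [← lift_tMap, ← eq_lift]⟩
    refine ⟨fun a => (key a a).2 ⟨1, by rw [MonObj.one_comp, _root_.one_mul]⟩, fun {a b} h => ?_,
      fun {a b c} h h' => ?_⟩
    · obtain ⟨f, rfl⟩ := (key a b).1 h
      exact (key _ _).2 ⟨f⁻¹, by rw [GrpObj.inv_comp, inv_mul_cancel_left]⟩
    · obtain ⟨f, rfl⟩ := (key a b).1 h
      obtain ⟨f', rfl⟩ := (key b c).1 h'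
      exact (key _ _).2 ⟨f * f', by rw [MonObj.mul_comp, _root_.mul_assoc]⟩

/-- Left translation by `u` as an automorphism of `F ⊗ G` followed by projection. -/
noncomputable def leftShear : F ⊗ G ≅ F ⊗ G where
  hom := lift (fst F G) ((fst F G ≫ u) * snd F G)
  inv := lift (fst F G) ((fst F G ≫ u)⁻¹ * snd F G)
  hom_inv_id := by
    apply CartesianMonoidalCategory.hom_ext
    · simp
    · simp only [Category.assoc, lift_snd, MonObj.comp_mul, GrpObj.comp_inv, lift_fst_assoc, Category.id_comp,
        inv_mul_cancel_left]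
  inv_hom_id := by
    apply CartesianMonoidalCategory.hom_ext
    · simp
    · simp only [Category.assoc, lift_snd, MonObj.comp_mul, GrpObj.comp_inv, lift_fst_assoc, Category.id_comp,
        mul_inv_cancel_left]

theorem tMap_eq : tMap u = (leftShear u).hom ≫ snd F G := by
  rw [leftShear, lift_snd, ← lift_tMap, lift_fst_snd, Category.id_comp]

theorem tMap_left_of {P : MorphismProperty Scheme.{u}} [P.IsStableUnderBaseChange] (h : P F.hom) :
    P (tMap u).left := by
  have : IsIso (leftShear u).hom.left := ((Over.forget S).mapIso (leftShear u)).isIso_hom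
  rw [tMap_eq, Over.comp_left]
  exact (P.cancel_left_of_respectsIso _ _).mpr (GrpSch.snd_left_of G h)

/-- The quotient sheaf. -/
noncomputable abbrev quotL : Sp S := QuotSh.quot Scheme.fppfPrecoverage (snd F G) (tMap u)

/-- The quotient map. -/
noncomputable abbrev quotLπ : (yon S).obj G ⟶ quotL u := quotMap (snd F G) (tMap u)

section Basic

variable [Mono u] [Flat F.hom] [LocallyOfFinitePresentation F.hom]

theorem isAlgSpace_quotL : IsAlgSpace (quotL u) := by
  haveI : Flat (snd F G).left := GrpSch.snd_left_of (P := @Flat) G ‹_›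
  haveI : LocallyOfFinitePresentation (snd F G).left := GrpSch.snd_left_of (P := @LocallyOfFinitePresentation) G ‹_›
  haveI : Flat (tMap u).left := tMap_left_of u (P := @Flat) ‹_›
  haveI : LocallyOfFinitePresentation (tMap u).left := tMap_left_of u (P := @LocallyOfFinitePresentation) ‹_›
  exact Bootstrap.isAlgSpace_quot (isEqvRel_left u)

theorem repWith_quotLπ : RepWith @Flat (quotLπ u) ∧ RepWith @LocallyOfFinitePresentation (quotLπ u) ∧
    RepWith @Surjective (quotLπ u) ∧ Sheaf.IsLocallySurjective (quotLπ u) := by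
  have hR := isEqvRel_left u
  haveI := isLocallySurjective_quotMap (snd F G) (tMap u)
  have hπ := representable_from_yon (isAlgSpace_quotL u).diag (quotLπ u)
  haveI := Bootstrap.isLocalAtTarget_fppf_flat.{u}
  haveI := Bootstrap.isLocalAtTarget_fppf_lfp.{u}
  haveI := isLocalAtTarget_fppf_surjective.{u}
  exact ⟨repWith_of_isLocallySurjective hπ _ (isPullback_quot hR) @Flat
      ((AlgSp.repWith_yon_map_iff _ _).2 (GrpSch.snd_left_of (P := @Flat) G ‹_›)),
    repWith_of_isLocallySurjective hπ _ (isPullback_quot hR) @LocallyOfFinitePresentation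
      ((AlgSp.repWith_yon_map_iff _ _).2 (GrpSch.snd_left_of (P := @LocallyOfFinitePresentation) G ‹_›)),
    repWith_of_isLocallySurjective hπ _ (isPullback_quot hR) @Surjective
      ((AlgSp.repWith_yon_map_iff _ _).2 (surjective_left_of_eqvRel hR).2), inferInstance⟩

omit [Flat F.hom] [LocallyOfFinitePresentation F.hom] in
theorem rel_iff {T : Over S} (a b : T ⟶ G) :
    (yon S).map a ≫ quotLπ u = (yon S).map b ≫ quotLπ u ↔ ∃ f : T ⟶ F, a = (f ≫ u) * b := by
  have sq := isPullback_quot (isEqvRel_left u)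
  refine ⟨fun h => ?_, fun ⟨f, hf⟩ => ?_⟩
  · obtain ⟨r, hr⟩ := (yon S).map_surjective (sq.lift _ _ h)
    have h1 : r ≫ tMap u = a := (yon S).map_injective (by rw [Functor.map_comp, hr, sq.lift_fst])
    have h2 : r ≫ snd F G = b := (yon S).map_injective (by rw [Functor.map_comp, hr, sq.lift_snd])
    exact ⟨r ≫ fst F G, by rw [← h2, ← lift_tMap, ← eq_lift, h1]⟩
  · rw [hf, ← lift_tMap u f b]
    conv_rhs => rw [← lift_snd f b, Functor.map_comp, Category.assoc, ← sq.w]
    rw [Functor.map_comp, Category.assoc]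

theorem isDecent_quotL [QuasiCompact u.left] : IsDecent (quotL u) := by
  refine AlgSpDecent.QS.isDecent_of_isQuasiSeparatedSp (isAlgSpace_quotL u) ?_
  have sq := isPullback_quot (isEqvRel_left u)
  obtain ⟨-, -, -, hls⟩ := repWith_quotLπ u
  haveI := hls
  haveI := isLocallySurjective_yonProdMap (quotLπ u) (quotLπ u)
  haveI := isLocalAtTarget_fppf_quasiCompact.{u}
  refine repWith_of_isLocallySurjective (isAlgSpace_quotL u).diag (yonProdMap (quotLπ u) (quotLπ u))
    (isPullback_diag_yonProd sq) @QuasiCompact ((AlgSp.repWith_yon_map_iff _ _).2 ?_)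
  let e : G ⊗ G ≅ G ⨯ G :=
    { hom := prod.lift (fst G G * snd G G) (snd G G)
      inv := lift (Limits.prod.fst * (Limits.prod.snd : G ⨯ G ⟶ G)⁻¹) Limits.prod.snd
      hom_inv_id := by
        apply CartesianMonoidalCategory.hom_ext
        · simp only [Category.assoc, lift_fst, MonObj.comp_mul, GrpObj.comp_inv, Limits.prod.lift_fst,
            Limits.prod.lift_snd, mul_inv_cancel_right, Category.id_comp]
        · simp
      inv_hom_id := by
        apply Limits.prod.hom_ext
        · simp only [Category.assoc, Limits.prod.lift_fst, MonObj.comp_mul, lift_fst, lift_snd,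
            inv_mul_cancel_right, Category.id_comp]
        · simp }
  have he : prod.lift (tMap u) (snd F G) = (u ▷ G) ≫ e.hom := by
    apply Limits.prod.hom_ext
    · simp only [e, Category.assoc, Limits.prod.lift_fst, MonObj.comp_mul]
      rw [Hom.mul_def, whiskerRight_fst, whiskerRight_snd]
      conv_rhs => rw [show lift (fst F G ≫ u) (snd F G) = u ▷ G by
        apply CartesianMonoidalCategory.hom_ext <;> simp]
    · simp [e]
  rw [he, Over.comp_left]
  haveI : QuasiCompact (u ▷ G).left := GrpSch.whiskerRight_left_of (P := @QuasiCompact) u G ‹_›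
  haveI : IsIso e.hom.left := ((Over.forget S).mapIso e).isIso_hom
  infer_instance

theorem exists_rightTranslation {H : Over S} (h : H ⟶ G) :
    ∃ θ : quotL u ⨯ (yon S).obj H ⟶ quotL u, ∀ (T : Over S) (g : T ⟶ G) (x : T ⟶ H),
      prod.lift ((yon S).map g ≫ quotLπ u) ((yon S).map x) ≫ θ =
        (yon S).map (g * (x ≫ h)) ≫ quotLπ u := by
  obtain ⟨hπ1, hπ2, hπ3, -⟩ := repWith_quotLπ u
  let f : (yon S).obj G ⨯ (yon S).obj H ⟶ quotL u ⨯ (yon S).obj H := prod.map (quotLπ u) (𝟙 _)
  have sqf : IsPullback f (Limits.prod.fst : (yon S).obj G ⨯ (yon S).obj H ⟶ _) Limits.prod.fst (quotLπ u) :=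
    ⟨⟨by simp [f]⟩, ⟨PullbackCone.IsLimit.mk _ (fun s => Limits.prod.lift s.snd (s.fst ≫ Limits.prod.snd))
      (fun s => Limits.prod.hom_ext (by simp [f, s.condition]) (by simp [f]))
      (fun s => by simp) (fun s m h1 h2 => Limits.prod.hom_ext (by simpa using h2)
        (by simpa [f] using congrArg (· ≫ Limits.prod.snd) h1))⟩⟩
  haveI := isLocallySurjective_of_repWith (repWith_baseChange sqf.flip hπ1) (repWith_baseChange sqf.flip hπ2)
    (repWith_baseChange sqf.flip hπ3)
  let m : G ⨯ H ⟶ G := Limits.prod.fst * (Limits.prod.snd ≫ h)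
  let φ : (yon S).obj G ⨯ (yon S).obj H ⟶ quotL u := (yonProdIso G H).inv ≫ (yon S).map m ≫ quotLπ u
  have hm : ∀ (T : Over S) (g : T ⟶ G) (x : T ⟶ H), prod.lift ((yon S).map g) ((yon S).map x) ≫ φ =
      (yon S).map (g * (x ≫ h)) ≫ quotLπ u := fun T g x => by
    have e : prod.lift ((yon S).map g) ((yon S).map x) ≫ (yonProdIso G H).inv =
        (yon S).map (Limits.prod.lift g x) := by
      rw [Iso.comp_inv_eq]
      apply Limits.prod.hom_ext <;> simp [← Functor.map_comp]
    rw [reassoc_of% e, ← Functor.map_comp_assoc]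
    congr 2
    simp only [m, MonObj.comp_mul, Limits.prod.lift_fst, Limits.prod.lift_snd_assoc]
  obtain ⟨θ, hθ⟩ := exists_desc f (IsPullback.of_hasPullback f f) φ (by
    refine hom_ext fun T c => ?_
    obtain ⟨a, ha⟩ := (yon S).map_surjective (c ≫ pullback.fst f f ≫ Limits.prod.fst)
    obtain ⟨b, hb⟩ := (yon S).map_surjective (c ≫ pullback.fst f f ≫ Limits.prod.snd)
    obtain ⟨a', ha'⟩ := (yon S).map_surjective (c ≫ pullback.snd f f ≫ Limits.prod.fst)
    obtain ⟨b', hb'⟩ := (yon S).map_surjective (c ≫ pullback.snd f f ≫ Limits.prod.snd)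
    have e1 : c ≫ pullback.fst f f = prod.lift ((yon S).map a) ((yon S).map b) := by
      apply Limits.prod.hom_ext <;> simp [ha, hb]
    have e2 : c ≫ pullback.snd f f = prod.lift ((yon S).map a') ((yon S).map b') := by
      apply Limits.prod.hom_ext <;> simp [ha', hb']
    have hbb : b = b' := (yon S).map_injective (by
      have := congrArg (fun z => c ≫ z ≫ Limits.prod.snd) (pullback.condition (f := f) (g := f))
      simpa [f, hb, hb'] using this)
    have haa : (yon S).map a ≫ quotLπ u = (yon S).map a' ≫ quotLπ u := by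
      have := congrArg (fun z => c ≫ z ≫ Limits.prod.fst) (pullback.condition (f := f) (g := f))
      rw [ha, ha']
      simpa [f, Category.assoc] using this
    rw [reassoc_of% e1, reassoc_of% e2, hm, hm, hbb]
    obtain ⟨v, hv⟩ := (rel_iff u a a').1 haa
    exact (rel_iff u _ _).2 ⟨v, by rw [hv, _root_.mul_assoc]⟩)
  refine ⟨θ, fun T g x => ?_⟩
  have e : prod.lift ((yon S).map g ≫ quotLπ u) ((yon S).map x) =
      prod.lift ((yon S).map g) ((yon S).map x) ≫ f := by
    apply Limits.prod.hom_ext <;> simp [f]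
  rw [e, Category.assoc, hθ, hm]

omit [Flat F.hom] [LocallyOfFinitePresentation F.hom] in
theorem hom_ext_prod {H : Over S} {Z : Sp S} [Sheaf.IsLocallySurjective (quotLπ u)]
    {a b : quotL u ⨯ (yon S).obj H ⟶ Z}
    (hab : ∀ (T : Over S) (g : T ⟶ G) (x : T ⟶ H),
      prod.lift ((yon S).map g ≫ quotLπ u) ((yon S).map x) ≫ a =
        prod.lift ((yon S).map g ≫ quotLπ u) ((yon S).map x) ≫ b) : a = b := by
  refine hom_ext fun T c => ?_
  obtain ⟨T', p, g, hp, hg⟩ := exists_lift_of_isLocallySurjective (quotLπ u) (c ≫ Limits.prod.fst)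
  haveI := epi_yon_map p hp
  obtain ⟨g, rfl⟩ := (yon S).map_surjective g
  obtain ⟨x, hx⟩ := (yon S).map_surjective ((yon S).map p ≫ c ≫ Limits.prod.snd)
  rw [← cancel_epi ((yon S).map p), ← Category.assoc, ← Category.assoc]
  have e : (yon S).map p ≫ c = prod.lift ((yon S).map g ≫ quotLπ u) ((yon S).map x) := by
    apply Limits.prod.hom_ext <;> simp [hg, hx]
  rw [e, hab]

end Basic

/-- Over a field the quotient is a scheme. -/
theorem isScheme_quotL_field {k : Type u} [Field k] {F G : Over (Spec (CommRingCat.of k))} [GrpObj F] [GrpObj G]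
    (u : F ⟶ G) [IsMonHom u] [Mono u] [QuasiCompact u.left] [LocallyOfFiniteType F.hom]
    [LocallyOfFiniteType G.hom] :
    ∃ M : Over (Spec (CommRingCat.of k)), Nonempty ((yon _).obj M ≅ quotL u) := by
  haveI : Flat F.hom := flat_to_field _
  haveI : LocallyOfFinitePresentation F.hom := LocallyOfFinitePresentation.iff_locallyOfFiniteType.2 ‹_›
  obtain ⟨hπ1, hπ2, hπ3, hls⟩ := repWith_quotLπ u
  haveI := hls
  obtain ⟨θ, hθ⟩ := exists_rightTranslation u (𝟙 G)
  obtain ⟨θ', hθ'⟩ := exists_rightTranslation u ((𝟙 G : G ⟶ G)⁻¹)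
  have hinv : ∀ {T : Over (Spec (CommRingCat.of k))} (x : T ⟶ G), x ≫ (𝟙 G : G ⟶ G)⁻¹ = x⁻¹ := fun x => by
    rw [GrpObj.comp_inv, Category.comp_id]
  haveI : Nonempty G.left := ⟨η[G].left (IsLocalRing.closedPoint k)⟩
  refine isScheme_of_transitive (isAlgSpace_quotL u) (isDecent_quotL u) (quotLπ u)
    (surjective_ofPt hπ3) θ θ' ?_ ?_ fun C _ c => ?_
  · refine hom_ext_prod u fun T g x => ?_
    rw [prod.comp_lift_assoc, hθ, Limits.prod.lift_snd, hθ', Limits.prod.lift_fst, hinv, Category.comp_id,
      mul_inv_cancel_right]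
  · refine hom_ext_prod u fun T g x => ?_
    rw [prod.comp_lift_assoc, hθ', Limits.prod.lift_snd, hθ, Limits.prod.lift_fst, hinv, Category.comp_id,
      inv_mul_cancel_right]
  · let e : C ⨯ G ≅ C ⨯ G :=
      { hom := prod.lift Limits.prod.fst ((Limits.prod.fst ≫ c) * Limits.prod.snd)
        inv := prod.lift Limits.prod.fst ((Limits.prod.fst ≫ c)⁻¹ * Limits.prod.snd)
        hom_inv_id := by
          apply Limits.prod.hom_ext
          · simp
          · simp only [Category.assoc, Limits.prod.lift_snd, MonObj.comp_mul, GrpObj.comp_inv,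
              Limits.prod.lift_fst_assoc, Category.id_comp, inv_mul_cancel_left]
        inv_hom_id := by
          apply Limits.prod.hom_ext
          · simp
          · simp only [Category.assoc, Limits.prod.lift_snd, MonObj.comp_mul, GrpObj.comp_inv,
              Limits.prod.lift_fst_assoc, Category.id_comp, mul_inv_cancel_left] }
    haveI : IsFinite C.hom := ‹_›
    haveI : Flat C.hom := flat_to_field _
    haveI : LocallyOfFinitePresentation C.hom :=
      LocallyOfFinitePresentation.iff_locallyOfFiniteType.2 inferInstance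
    haveI : UniversallyOpen (Limits.prod.snd : C ⨯ G ⟶ G).left :=
      repWith_prod_snd @UniversallyOpen C G inferInstance
    haveI : IsIso e.hom.left := ((Over.forget _).mapIso e).isIso_hom
    have hm : RepWith @UniversallyOpen ((yon _).map (e.hom ≫ (Limits.prod.snd : C ⨯ G ⟶ G))) := by
      refine (AlgSp.repWith_yon_map_iff _ _).2 ?_
      rw [Over.comp_left]
      infer_instance
    have hop : RepWith @UniversallyOpen (quotLπ u) :=
      ⟨hπ1.1, fun T V ξ fst v sq => by
        haveI : Flat v.left := repWith_property hπ1 sq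
        haveI : LocallyOfFinitePresentation v.left := repWith_property hπ2 sq
        show UniversallyOpen v.left
        infer_instance⟩
    have key : prod.map ((yon _).map c ≫ quotLπ u) (𝟙 ((yon _).obj G)) ≫ θ =
        (yonProdIso C G).inv ≫ (yon _).map (e.hom ≫ (Limits.prod.snd : C ⨯ G ⟶ G)) ≫ quotLπ u := by
      rw [← cancel_epi (yonProdIso C G).hom, Iso.hom_inv_id_assoc]
      have e1 : (yonProdIso C G).hom ≫ prod.map ((yon _).map c ≫ quotLπ u) (𝟙 ((yon _).obj G)) =
          prod.lift ((yon _).map ((Limits.prod.fst : C ⨯ G ⟶ C) ≫ c) ≫ quotLπ u)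
            ((yon _).map (Limits.prod.snd : C ⨯ G ⟶ G)) := by
        apply Limits.prod.hom_ext
        · rw [Category.assoc, Limits.prod.map_fst, yonProdIso_hom_fst_assoc, Limits.prod.lift_fst,
            Functor.map_comp, Category.assoc]
        · rw [Category.assoc, Limits.prod.map_snd, Category.comp_id, yonProdIso_hom_snd, Limits.prod.lift_snd]
      rw [reassoc_of% e1, hθ, Category.comp_id]
      simp [e]
    rw [key]
    have e2 : Points.map ((yonProdIso C G).inv ≫ (yon _).map (e.hom ≫ (Limits.prod.snd : C ⨯ G ⟶ G)) ≫ quotLπ u) =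
        Points.map (quotLπ u) ∘ Points.map ((yon _).map (e.hom ≫ (Limits.prod.snd : C ⨯ G ⟶ G))) ∘
          Points.map (yonProdIso C G).inv := funext fun z => by
      simp only [Function.comp_apply, ← AlgSp.Points.map_comp, Category.assoc]
    rw [e2]
    exact (isOpenMap_map hop).comp ((isOpenMap_map hm).comp
      (AlgSpDecent.Core.homeoOfIso (yonProdIso C G).symm).isOpenMap)

end Groth.Agent.Lib.SpHomog
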